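import Cfsg.Agent.Co1Five.Facts

/-!
A group generated by an involution and an element of fifth power one with product of third power one has at
most sixty elements.
-/

set_option autoImplicit false
set_option maxRecDepth 100000

namespace CfsgLib.Co1Five

/-- The cosets. -/
abbrev Idx : Type := (Unit ⊕ Fin 5) ⊕ (Fin 5 ⊕ Unit)

variable {G : Type*} [Group G]

/-- Representatives of the twelve cosets of the cyclic subgroup. -/
def rep (x b : G) : Idx → G
  | .inl (.inl _) => 1
  | .inl (.inr i) => b ^ i.val * x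
  | .inr (.inl i) => b ^ i.val * (x * b ^ 2 * x)
  | .inr (.inr _) => x * b ^ 3 * (x * b ^ 2 * x)

theorem pow_mod5 {b : G} (hb : b ^ 5 = 1) (n : ℕ) :
    b ^ n = b ^ ((⟨n % 5, Nat.mod_lt _ (by norm_num)⟩ : Fin 5).val) := by
  conv_lhs => rw [← Nat.mod_add_div n 5, pow_add, pow_mul, hb, one_pow, mul_one]

theorem closure_le_sixty {x b : G} (hx : x * x = 1) (hb : b ^ 5 = 1) (h : (x * b) ^ 3 = 1) :
    ∀ g ∈ Subgroup.closure {x, b}, ∃ n : Idx, ∃ i : Fin 5, g = rep x b n * b ^ i.val := by
  have hxi : x⁻¹ = x := inv_eq_of_mul_eq_one_right hx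
  have hbi : b⁻¹ = b ^ 4 := inv_eq_of_mul_eq_one_right (by rw [← pow_succ', hb])
  have e1 : x * b * x = b⁻¹ * x * b⁻¹ := by
    rw [pow_succ, pow_two] at h
    calc x * b * x = (x * b * (x * b) * (x * b)) * (b⁻¹ * x⁻¹ * b⁻¹) := by group
      _ = b⁻¹ * x * b⁻¹ := by rw [h, one_mul, hxi]
  have e4 : x * b⁻¹ * x = b * x * b := by
    have := congrArg (fun t => t⁻¹) e1
    simpa [mul_inv_rev, hxi, mul_assoc] using this
  set t := x * b ^ 2 * x with ht
  have e2 : t = b⁻¹ * x * b ^ 3 * x * b⁻¹ := by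
    calc t = x * b * (x * x) * b * x := by rw [ht, hx, mul_one, mul_assoc x b b, ← pow_two]
      _ = (x * b * x) * (x * b * x) := by group
      _ = b⁻¹ * x * (b⁻¹ * b⁻¹) * x * b⁻¹ := by rw [e1]; group
      _ = _ := by
        rw [show b⁻¹ * b⁻¹ = b ^ 3 from by rw [← mul_inv_rev, inv_eq_of_mul_eq_one_right]; rw [← hb]; group]
  have e3 : x * b ^ 3 * x = b * t * b := by rw [e2]; group
  set w := x * b ^ 3 * t with hw
  have hw' : b * w = w * b⁻¹ := by
    have h1 : w = b * x * b ^ 2 * x * b ^ 3 * x := by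
      rw [hw, ht]
      calc x * b ^ 3 * (x * b ^ 2 * x) = (x * b ^ 3 * x) * b ^ 2 * x := by group
        _ = b * (x * b ^ 2 * x) * b * b ^ 2 * x := by rw [e3, ht]
        _ = _ := by group
    have h2 : w = b * w * b := by
      conv_lhs => rw [h1]
      calc b * x * b ^ 2 * x * b ^ 3 * x = b * x * b ^ 2 * (x * b ^ 3 * x) := by group
        _ = b * x * b ^ 2 * (b * t * b) := by rw [e3]
        _ = b * w * b := by rw [hw]; group
    calc b * w = b * w * b * b⁻¹ := by group
      _ = w * b⁻¹ := by rw [← h2]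
  set S : Set G := {g | ∃ n : Idx, ∃ k : ℕ, g = rep x b n * b ^ k} with hS
  have mk : ∀ (n : Idx) (k : ℕ), rep x b n * b ^ k ∈ S := fun n k => ⟨n, k, rfl⟩
  have hmod : ∀ n : ℕ, b ^ n = b ^ ((⟨n % 5, Nat.mod_lt _ (by norm_num)⟩ : Fin 5).val) := pow_mod5 hb
  have mk1 : ∀ n k : ℕ, b ^ n * x * b ^ k ∈ S := fun n k => by
    rw [hmod n]; exact mk (.inl (.inr _)) k
  have mk2 : ∀ n k : ℕ, b ^ n * t * b ^ k ∈ S := fun n k => by
    rw [hmod n]; exact mk (.inr (.inl _)) k
  have hright : ∀ g ∈ S, ∀ k : ℕ, g * b ^ k ∈ S := by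
    rintro _ ⟨n, j, rfl⟩ k
    rw [mul_assoc, ← pow_add]; exact mk n _
  have hbS : ∀ g ∈ S, b * g ∈ S := by
    rintro _ ⟨n, k, rfl⟩
    rw [← mul_assoc]
    refine hright _ ?_ k
    rcases n with (_ | i) | (i | _)
    · simpa [rep] using mk (.inl (.inl ())) 1
    · rw [show b * rep x b (.inl (.inr i)) = b ^ (i.val + 1) * x * b ^ 0 by simp [rep, pow_succ', mul_assoc]]
      exact mk1 _ _
    · rw [show b * rep x b (.inr (.inl i)) = b ^ (i.val + 1) * t * b ^ 0 by simp [rep, ht, pow_succ', mul_assoc]]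
      exact mk2 _ _
    · show b * w ∈ S
      rw [hw', hbi]
      exact mk (.inr (.inr ())) 4
  have hxS : ∀ g ∈ S, x * g ∈ S := by
    rintro _ ⟨n, k, rfl⟩
    rw [← mul_assoc]
    refine hright _ ?_ k
    rcases n with (_ | i) | (i | _)
    · simpa [rep] using mk1 0 0
    · show x * (b ^ i.val * x) ∈ S
      rw [← mul_assoc]
      fin_cases i
      · simpa [rep, hx] using mk (.inl (.inl ())) 0
      · simp only [pow_one]
        rw [e1, hbi]; exact mk1 4 4
      · have := mk2 0 0
        simp only [pow_zero, one_mul, mul_one] at this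
        exact this
      · show x * b ^ 3 * x ∈ S
        rw [e3]; simpa using mk2 1 1
      · show x * b ^ 4 * x ∈ S
        rw [← hbi, e4]; simpa using mk1 1 1
    · show x * (b ^ i.val * t) ∈ S
      have h4 : x * b ^ 4 * t = b ^ 2 * t * b := by
        rw [ht, ← hbi]
        calc x * b⁻¹ * (x * b ^ 2 * x) = (x * b⁻¹ * x) * b ^ 2 * x := by group
          _ = b * (x * b ^ 3 * x) := by rw [e4]; group
          _ = _ := by rw [e3, ht, pow_two]; group
      rw [← mul_assoc]
      fin_cases i
      · show x * b ^ 0 * t ∈ S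
        rw [pow_zero, mul_one, ht, ← mul_assoc, ← mul_assoc, hx, one_mul]
        simpa using mk1 2 0
      · show x * b ^ 1 * t ∈ S
        rw [show x * b ^ 1 * t = (x * b * x) * b ^ 2 * x by rw [ht]; group, e1,
          show b⁻¹ * x * b⁻¹ * b ^ 2 * x = b⁻¹ * (x * b * x) by group, e1,
          show b⁻¹ * (b⁻¹ * x * b⁻¹) = b ^ 3 * x * b⁻¹ from by
            rw [← mul_assoc, ← mul_assoc, show b⁻¹ * b⁻¹ = b ^ 3 from by
              rw [← mul_inv_rev, inv_eq_of_mul_eq_one_right]; rw [← hb]; group], hbi]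
        exact mk1 _ _
      · show x * b ^ 2 * t ∈ S
        have : x * b ^ 2 * t = b ^ 4 * t * b⁻¹ := by
          calc x * b ^ 2 * t = x * (b ^ 2 * t * b) * b⁻¹ := by group
            _ = x * (x * b ^ 4 * t) * b⁻¹ := by rw [h4]
            _ = (x * x) * (b ^ 4 * t * b⁻¹) := by group
            _ = _ := by rw [hx, one_mul]
        rw [this, hbi]; exact mk2 4 4
      · show x * b ^ 3 * t ∈ S
        have := mk (.inr (.inr ())) 0
        rw [pow_zero, mul_one] at this
        exact this
      · show x * b ^ 4 * t ∈ S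
        rw [h4]; simpa using mk2 2 1
    · show x * w ∈ S
      rw [show x * w = (x * x) * (b ^ 3 * t * b ^ 0) by rw [hw, pow_zero, mul_one]; group, hx, one_mul]
      exact mk2 3 0
  intro g hg
  have key : g ∈ S := by
    have hall : ∀ s ∈ S, g * s ∈ S := by
      induction hg using Subgroup.closure_induction with
      | mem y hy =>
        rcases hy with rfl | hy
        · exact hxS
        · rw [Set.mem_singleton_iff.1 hy]; exact hbS
      | one => intro s hs; rwa [one_mul]
      | mul a c _ _ iha ihc => intro s hs; rw [mul_assoc]; exact iha _ (ihc s hs)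
      | inv a ha iha =>
        intro s hs
        have hfin : ∀ n : ℕ, ∀ s ∈ S, a ^ n * s ∈ S := by
          intro n
          induction n with
          | zero => intro s hs; rwa [pow_zero, one_mul]
          | succ n ih => intro s hs; rw [pow_succ, mul_assoc]; exact ih _ (iha s hs)
        have hSfin : S.Finite := by
          refine Set.Finite.subset (Set.finite_range fun p : Idx × Fin 5 => rep x b p.1 * b ^ p.2.val) ?_
          rintro _ ⟨n, k, rfl⟩
          exact ⟨(n, _), by rw [hmod k]⟩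
        have hinj : Set.InjOn (fun s => a * s) S := fun _ _ _ _ e => mul_left_cancel e
        obtain ⟨s', hs', e⟩ := (hSfin.injOn_iff_bijOn_of_mapsTo iha).1 hinj |>.surjOn hs
        rw [← e]
        simpa using hs'
    have h1 : (1 : G) ∈ S := by simpa [rep] using mk (.inl (.inl ())) 0
    simpa using hall 1 h1
  obtain ⟨n, k, rfl⟩ := key
  exact ⟨n, _, by rw [hmod k]⟩

end CfsgLib.Co1Five
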