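import Cfsg.Agent.Co1Five.Split

/-!
The centraliser in the involution centraliser of the complement, and the fusion of the central involution inside
the centraliser of the complement.
-/

set_option autoImplicit false
set_option maxRecDepth 100000
set_option synthInstance.maxSize 4096
set_option linter.style.haveILetI false
set_option linter.unusedSectionVars false

namespace CfsgLib.Co1Five

open CfsgLib CfsgLib.Quad CfsgLib.Co1Invol Subgroup
open CfsgLib.HJT (V5 Ev wt dot sing IsInv5)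

local notation "pa" => CfsgLib.HJT.act

variable {G : Type*} [Group G] [Finite G] {z : G} {D : Dat z}

/-- The complement. -/
def compl (b x : G) : Subgroup G := closure {x, b}

theorem mem_cent_compl {b x n : G} :
    n ∈ centralizer (compl b x : Set G) ↔ n * x = x * n ∧ n * b = b * n := by
  rw [compl, centralizer_closure, mem_centralizer_iff]
  refine ⟨fun h => ⟨(h x (Or.inl rfl)).symm, (h b (Or.inr rfl)).symm⟩, ?_⟩
  rintro ⟨hx, hb⟩ h (rfl | rfl)
  · exact hx.symm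
  · exact hb.symm

theorem hyper_split : ∀ i : Fin 5, ∀ f v : V5, Ev f → Ev v → dot (sing i) f = 1 → dot (sing i) v = 1 →
    dot (sing i) (f + v) = 0 := by decide +kernel

theorem wt_shift : ∀ i : Fin 5, ∀ f : V5, Ev f → dot (sing i) f = 1 → wt (f + sing i) ≠ wt f := by decide +kernel

theorem two_line : ∀ i : Fin 5, ∀ a c : V5, (a = 0 ∨ a = sing i) → (c = 0 ∨ c = sing i) →
    (a + c = 0 ∨ a + c = sing i) ∧ dot (sing i) a = 0 ∧ wt a = 0 := by decide +kernel

theorem self_eq_zero : ∀ v : V5, v + v = 0 := by decide +kernel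

namespace Five

variable {b : G} (F : Five D b)
include F

theorem pow_hact (n : ℕ) : hact D (b ^ n) = iota (1, β ^ n) := by
  induction n with
  | zero => simp [hact_Q (one_mem D.Q), ← Prod.one_eq_mk]
  | succ n ih => rw [pow_succ, hact_mul (pow_mem F.C n) F.C, ih, F.eq, ← map_mul, Prod.mk_mul_mk, mul_one, pow_succ]

theorem conj_split {c x : G} (S : Split D b x) (hc : c ∈ centralizer ({z} : Set G)) (hcb : c * b = b * c)
    {σ : Equiv.Perm (Fin 5)} (hca : hact D c = iota (σ, 1)) : c * x = x * c := by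
  have hK : c * x * c⁻¹ ∈ K2 D := by
    refine Co1Five.mem_K2.2 ⟨mul_mem (mul_mem hc S.C) (inv_mem hc), fun q hq => ?_⟩
    have hq' : c⁻¹ * q * c ∈ Q1 D := by
      refine (F.mem_Q1 (norm_Q' D hc hq.1)).1 ?_
      have hci : b * c⁻¹ = c⁻¹ * b := by
        calc b * c⁻¹ = c⁻¹ * (c * b) * c⁻¹ := by group
          _ = c⁻¹ * b := by rw [hcb]; group
      calc b * (c⁻¹ * q * c) = b * c⁻¹ * q * c := by group
        _ = c⁻¹ * (b * q) * c := by rw [hci]; group
        _ = c⁻¹ * q * (b * c) := by rw [(F.mem_Q1 hq.1).2 hq]; group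
        _ = c⁻¹ * q * c * b := by rw [← hcb]; group
    have h := (Co1Five.mem_K2.1 S.K).2 _ hq'
    calc c * x * c⁻¹ * q = c * (x * (c⁻¹ * q * c)) * c⁻¹ := by group
      _ = q * (c * x * c⁻¹) := by rw [h]; group
  have hb' : c⁻¹ * b * c = b := by rw [mul_assoc, ← hcb]; group
  have S' : Split D b (c * x * c⁻¹) := ⟨hK, by
    rw [show c * x * c⁻¹ * (c * x * c⁻¹) = c * (x * x) * c⁻¹ by group, S.sq]; group, by
    rw [hact_conj D hc S.C, hca, S.act, ← map_inv, ← map_mul, ← map_mul]; simp, by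
    rw [show c * x * c⁻¹ * b = c * (x * (c⁻¹ * b * c)) * c⁻¹ by group, hb', conj_pow, S.rel]; group⟩
  calc c * x = c * x * c⁻¹ * c := by group
    _ = x * c := by rw [F.split_unique S S']

theorem cent_compl {x : G} (S : Split D b x) {c : G} (hc : c ∈ centralizer ({z} : Set G)) :
    c ∈ centralizer (compl b x : Set G) ↔
      c * b = b * c ∧ ∃ σ, Equiv.Perm.sign σ = 1 ∧ hact D c = iota (σ, 1) := by
  rw [mem_cent_compl]
  constructor
  · rintro ⟨hx, hb⟩
    refine ⟨hb, ?_⟩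
    obtain ⟨σ, i, hσ, ha⟩ := F.cent_form hc hb
    have h : hact D c * hact D x = hact D x * hact D c := by rw [← hact_mul hc S.C, hx, hact_mul S.C hc]
    rw [ha, S.act, ← map_mul, ← map_mul, Prod.mk_mul_mk, Prod.mk_mul_mk] at h
    have h1 := inv5_center (β ^ i.val) (congrArg Prod.snd (iota_injective h)) i rfl
    exact ⟨σ, hσ, by rw [ha, h1]⟩
  · rintro ⟨hb, σ, -, ha⟩
    exact ⟨F.conj_split S hc hb ha, hb⟩

theorem Q1_cent {x : G} (S : Split D b x) {q : G} (hq : q ∈ Q1 D) : q ∈ centralizer (compl b x : Set G) :=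
  mem_cent_compl.2 ⟨((Co1Five.mem_K2.1 S.K).2 q hq).symm, ((F.mem_Q1 hq.1).2 hq).symm⟩

/-- The central involution moves inside the centraliser of the complement. -/
theorem move_compl {x : G} (S : Split D b x) {g₀ : G} (h₀ : g₀ * z * g₀⁻¹ ∈ D.Q) (hne : g₀ * z * g₀⁻¹ ≠ z)
    {s : G} (hs : s ∈ Q1 D) (hs2 : qf (D.π s) = 0) (hs0 : D.π s ≠ 0) :
    ∃ k ∈ centralizer (compl b x : Set G), k * z * k⁻¹ = s := by
  obtain ⟨k, hkb, hkz, hs', hs'z⟩ := F.move h₀ hne hs hs2 hs0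
  have hss : s * s = 1 := (D.sq_iff s hs.1).2 hs2
  set s' := k⁻¹ * z * k with hs'd
  have hs's : s' * s' = 1 := by
    rw [hs'd, show k⁻¹ * z * k * (k⁻¹ * z * k) = k⁻¹ * (z * z) * k by group, D.pre.gen.sq]; group
  have hs'1 : s' ≠ 1 := fun e => D.pre.gen.ne_one (by
    calc z = k * s' * k⁻¹ := by rw [hs'd]; group
      _ = 1 := by rw [e]; group)
  obtain ⟨i', hi'⟩ : ∃ i', D.π s' = enc (sing i') 0 := by
    have h1 : wt (dec1 (D.π s')) = 0 := by
      have h := (D.sq_iff s' hs'.1).1 hs's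
      rwa [Q1_π hs', qf_enc _ _ (ev_dec _).1 ev_zero, CfsgLib.HJT.wt_zero, add_zero] at h
    rcases CfsgLib.HJT.wt_zero_cases _ (ev_dec _).1 h1 with e | ⟨i, e⟩
    · exfalso
      rcases (D.π_eq_zero s' hs'.1).1 (by rw [Q1_π hs', e, enc_zero]) with e' | e'
      · exact hs'1 e'
      · exact hs'z e'
    · exact ⟨i, by rw [Q1_π hs', e]⟩
  have hkb' : k⁻¹ * b * k = b := by rw [mul_assoc, ← hkb]; group
  set x' := k⁻¹ * x * k with hx'
  have hxs : x * s = s * x := (Co1Five.mem_K2.1 S.K).2 s hs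
  have hx'C : x' ∈ centralizer ({z} : Set G) := mem_Cz.2 (by
    calc x' * z = k⁻¹ * (x * (k * z * k⁻¹)) * k := by rw [hx']; group
      _ = k⁻¹ * ((k * z * k⁻¹) * x) * k := by rw [hkz, hxs]
      _ = z * x' := by rw [hx']; group)
  have hx'sq : x' * x' = 1 := by
    rw [hx', show k⁻¹ * x * k * (k⁻¹ * x * k) = k⁻¹ * (x * x) * k by group, S.sq]; group
  have hx'b : x' * b = k⁻¹ * (x * b) * k⁻¹⁻¹ := by
    rw [inv_inv, hx']
    calc k⁻¹ * x * k * b = k⁻¹ * x * (k * b) := by group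
      _ = k⁻¹ * (x * b) * k := by rw [hkb]; group
  have hx'rel : (x' * b) ^ 3 = 1 := by rw [hx'b, conj_pow, S.rel]; group
  -- the hyperplane
  have hperp : ∀ q ∈ Q1 D, dot (sing i') (dec1 (D.π q)) = 0 → x' * q = q * x' := by
    intro q hq hq0
    have hqs : q * s' = s' * q := (D.comm_iff q hq.1 s' hs'.1).2 (by
      rw [Q1_π hq, hi', bf_enc (ev_dec _).1 ev_zero (ev_sing' i') ev_zero, dot_comm', hq0]; simp [dot])
    set Y := k * q * k⁻¹ with hY
    have hYC : Y ∈ centralizer ({z} : Set G) := mem_Cz.2 (by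
      calc Y * z = k * (q * s') * k⁻¹ := by rw [hY, hs'd]; group
        _ = k * (s' * q) * k⁻¹ := by rw [hqs]
        _ = z * Y := by rw [hY, hs'd]; group)
    have hki : k⁻¹ * b = b * k⁻¹ := by
      calc k⁻¹ * b = k⁻¹ * (b * k) * k⁻¹ := by group
        _ = b * k⁻¹ := by rw [← hkb]; group
    have hYb : Y * b = b * Y := by
      calc Y * b = k * q * (k⁻¹ * b) := by rw [hY]; group
        _ = k * (q * b) * k⁻¹ := by rw [hki]; group
        _ = (k * b) * q * k⁻¹ := by rw [← (F.mem_Q1 hq.1).2 hq]; group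
        _ = b * Y := by rw [hkb, hY]; group
    obtain ⟨σ, j, -, ha⟩ := F.cent_form hYC hYb
    have hY4 : Y ^ 4 = 1 := by
      rw [hY, conj_pow, show (4 : ℕ) = 2 * 2 from rfl, pow_mul, pow_two q]
      rcases sq_cases D hq.1 with e | e <;> rw [e]
      · rw [one_pow, mul_one, mul_inv_cancel]
      · rw [pow_two, D.pre.gen.sq, mul_one, mul_inv_cancel]
    have h4 : hact D Y ^ 4 = 1 := by
      rw [hact_eq hYC, ← map_pow, show (⟨Y, hYC⟩ : centralizer ({z} : Set G)) ^ 4 = 1 from Subtype.ext hY4, map_one]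
    rw [ha, ← map_pow, Prod.pow_mk, ← map_one iota] at h4
    have hj : β ^ j.val = 1 :=
      (show ∀ j : Fin 5, (β ^ j.val) ^ 4 = 1 → β ^ j.val = 1 by decide +kernel) j
        (congrArg Prod.snd (iota_injective h4))
    rw [hj] at ha
    have hc := F.conj_split S hYC hYb ha
    calc x' * q = k⁻¹ * (x * Y) * k := by rw [hx', hY]; group
      _ = k⁻¹ * (Y * x) * k := by rw [hc]
      _ = q * x' := by rw [hx', hY]; group
  set g := hact D x' with hg
  have hgh : ∀ v, Ev v → dot (sing i') v = 0 → g.1 (enc v 0) = enc v 0 := by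
    intro v hv hv0
    obtain ⟨q, hq, hqπ⟩ := exists_Q1 D hv
    have hq' : q ∈ Q1 D := hq
    rw [← hqπ, ← (π_conj hx'C hq.1).2, hperp q hq' (by rw [hqπ, (dec_enc v 0 hv ev_zero).1]; exact hv0),
      mul_inv_cancel_right]
  have hg2 : g * g = 1 := hact_sq' D hx'C (by rw [hx'sq]; exact one_mem _)
  have hgβ : (g * iota (1, β)) ^ 3 = 1 := by
    rw [hg, ← F.eq, ← hact_mul hx'C F.C, hact_eq (mul_mem hx'C F.C), ← map_pow,
      show (⟨x' * b, mul_mem hx'C F.C⟩ : centralizer ({z} : Set G)) ^ 3 = 1 from Subtype.ext hx'rel, map_one]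
  have hgg : ∀ m, g.1 (g.1 m) = m := fun m => by
    show (g * g).1 m = m
    rw [hg2]; rfl
  -- the first component of the image of the second block is on the line
  have hline : ∀ a w, Ev a → Ev w → ∀ a' w', Ev a' → Ev w' → g.1 (enc a w) = enc a' w' →
      (∀ u, Ev u → dot (sing i') u = 0 → dot a' u = dot a u) := by
    intro a w ha hw a' w' ha' hw' h u hu hu0
    have := bf_oGroup g (enc a w) (enc u 0)
    rw [h, hgh u hu hu0, bf_enc ha' hw' hu ev_zero, bf_enc ha hw hu ev_zero] at this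
    simpa [dot] using this
  set μ : V5 → V5 := fun w => dec1 (g.1 (enc 0 w)) with hμ
  set T : V5 → V5 := fun w => dec2 (g.1 (enc 0 w)) with hT
  have hTe : ∀ w, g.1 (enc 0 w) = enc (μ w) (T w) := fun w => (enc_dec _).symm
  have hμl : ∀ w, Ev w → μ w = 0 ∨ μ w = sing i' := fun w hw => by
    refine perp_dual i' _ (ev_dec _).1 fun u hu hu0 => ?_
    rw [hline 0 w ev_zero hw _ _ (ev_dec _).1 (ev_dec _).2 (hTe w) u hu hu0]
    simp [dot]
  have hfixμ : ∀ a, (a = 0 ∨ a = sing i') → Ev a ∧ g.1 (enc a 0) = enc a 0 := by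
    intro a ha
    have hev : Ev a := by rcases ha with rfl | rfl; exacts [ev_zero, ev_sing' _]
    exact ⟨hev, hgh a hev (two_line i' a 0 ha (Or.inl rfl)).2.1⟩
  have hsplit : ∀ a w : V5, enc a w = enc a 0 + enc 0 w := fun a w => by rw [← enc_add, add_zero, zero_add]
  have hTadd : ∀ u v, Ev u → Ev v → T (u + v) = T u + T v := fun u v _ _ => by
    rw [hT]; simp only
    rw [show enc 0 (u + v) = enc 0 u + enc 0 v by rw [← enc_add, add_zero], map_add, dec2_add]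
  obtain ⟨τ, hτ⟩ := exists_perm T (fun v _ => (ev_dec _).2) hTadd
    (fun w hw => by
      have h := qf_oGroup g (enc 0 w)
      rwa [hTe, qf_enc (μ w) (T w) (ev_dec _).1 (ev_dec _).2, qf_enc _ _ ev_zero hw, CfsgLib.HJT.wt_zero, zero_add,
        (two_line i' _ 0 (hμl w hw) (Or.inl rfl)).2.2, zero_add] at h)
    (fun w hw e => by
      have h1 := congrArg g.1 (hTe w)
      rw [hgg, e, (hfixμ _ (hμl w hw)).2] at h1
      exact (enc_inj ev_zero hw (hfixμ _ (hμl w hw)).1 ev_zero h1).2)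
  have hgw : ∀ a w, (a = 0 ∨ a = sing i') → Ev w → ∃ a', (a' = 0 ∨ a' = sing i') ∧
      g.1 (enc a w) = enc a' (pa τ w) := by
    intro a w ha hw
    refine ⟨a + μ w, (two_line i' a _ ha (hμl w hw)).1, ?_⟩
    rw [hsplit a w, map_add, (hfixμ a ha).2, hTe, ← enc_add, zero_add, hτ w hw]
  have hτ2 : τ * τ = 1 := by
    refine perm_ext fun w hw => ?_
    obtain ⟨a, ha, e⟩ := hgw 0 w (Or.inl rfl) hw
    obtain ⟨a', ha', e'⟩ := hgw a _ ha (ev_pa _ hw)
    have h := hgg (enc 0 w)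
    rw [e, e'] at h
    rw [CfsgLib.HJT.act_one, CfsgLib.HJT.act_mul]
    exact (enc_inj (hfixμ a' ha').1 (ev_pa _ (ev_pa _ hw)) ev_zero hw h).2
  set Γ := g * iota (1, β) with hΓ
  have hΓw : ∀ a w, (a = 0 ∨ a = sing i') → Ev w → ∃ a', (a' = 0 ∨ a' = sing i') ∧
      Γ.1 (enc a w) = enc a' (pa (τ * β) w) := by
    intro a w ha hw
    obtain ⟨a', ha', e⟩ := hgw a _ ha (ev_pa β hw)
    refine ⟨a', ha', ?_⟩
    show g.1 ((iota (1, β)).1 (enc a w)) = _
    rw [iota_enc _ _ (hfixμ a ha).1 hw, CfsgLib.HJT.act_one, e, CfsgLib.HJT.act_mul]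
  have hΓ3 : ∀ m, Γ.1 (Γ.1 (Γ.1 m)) = m := fun m => by
    show (Γ * Γ * Γ).1 m = m
    rw [show Γ * Γ * Γ = Γ ^ 3 by simp [pow_succ], hgβ]; rfl
  have hτ3 : (τ * β) ^ 3 = 1 := by
    refine perm_ext fun w hw => ?_
    obtain ⟨a₁, ha₁, e₁⟩ := hΓw 0 w (Or.inl rfl) hw
    obtain ⟨a₂, ha₂, e₂⟩ := hΓw a₁ _ ha₁ (ev_pa _ hw)
    obtain ⟨a₃, ha₃, e₃⟩ := hΓw a₂ _ ha₂ (ev_pa _ (ev_pa _ hw))
    have h := hΓ3 (enc 0 w)
    rw [e₁, e₂, e₃] at h
    rw [CfsgLib.HJT.act_one, pow_succ, pow_two, CfsgLib.HJT.act_mul, CfsgLib.HJT.act_mul]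
    exact (enc_inj (hfixμ a₃ ha₃).1 (ev_pa _ (ev_pa _ (ev_pa _ hw))) ev_zero hw h).2
  -- the vector off the hyperplane
  obtain ⟨f, hf, hf1⟩ := exists_off i'
  set a₀ := dec1 (g.1 (enc f 0)) + f with ha₀
  set r := dec2 (g.1 (enc f 0)) with hr
  have hgf : g.1 (enc f 0) = enc (f + a₀) r := by
    rw [ha₀, add_comm (dec1 _) f, ← add_assoc, self_eq_zero, zero_add, hr, enc_dec]
  have hrev : Ev r := (ev_dec _).2
  have ha₀ev : Ev a₀ := ev_add _ _ (ev_dec _).1 hf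
  have ha₀l : a₀ = 0 ∨ a₀ = sing i' := by
    refine perp_dual i' _ ha₀ev fun u hu hu0 => ?_
    have h := hline f 0 hf ev_zero _ _ (ev_dec _).1 (ev_dec _).2 (enc_dec _).symm u hu hu0
    have hadd : ∀ x y u : V5, dot (x + y) u = dot x u + dot y u := fun x y u => by
      simp [dot, add_mul, Finset.sum_add_distrib]
    rw [ha₀, hadd, h, CharTwo.add_self_eq_zero]
  have hrfix : pa τ r = r := by
    have h := hgg (enc f 0)
    obtain ⟨a', ha', e'⟩ := hgw a₀ r ha₀l hrev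
    rw [hgf, show enc (f + a₀) r = enc f 0 + enc a₀ r by rw [← enc_add, zero_add], map_add, e', hgf, ← enc_add] at h
    have h2 := (enc_inj (ev_add _ _ (ev_add _ _ hf ha₀ev) (hfixμ a' ha').1) (ev_add _ _ hrev (ev_pa _ hrev)) hf ev_zero
      h).2
    have h3 : ∀ p q : V5, q + p = 0 → p = q := by decide +kernel
    exact h3 _ _ h2
  have hr0 : r = 0 := by
    have hΓf : ∀ a w, (a = 0 ∨ a = sing i') → Ev w → ∃ a', (a' = 0 ∨ a' = sing i') ∧
        Γ.1 (enc (f + a) w) = enc (f + a') (r + pa (τ * β) w) := by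
      intro a w ha hw
      obtain ⟨a', ha', e'⟩ := hΓw a w ha hw
      refine ⟨a₀ + a', (two_line i' _ _ ha₀l ha').1, ?_⟩
      rw [show enc (f + a) w = enc f 0 + enc a w by rw [← enc_add, zero_add], map_add, e',
        show Γ.1 (enc f 0) = g.1 (enc f 0) from by
          show g.1 ((iota (1, β)).1 (enc f 0)) = _
          rw [iota_enc _ _ hf ev_zero, CfsgLib.HJT.act_one, pa_zero],
        hgf, ← enc_add, add_assoc]
    obtain ⟨a₁, ha₁, e₁⟩ := hΓf 0 0 (Or.inl rfl) ev_zero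
    obtain ⟨a₂, ha₂, e₂⟩ := hΓf a₁ _ ha₁ (ev_add _ _ hrev (ev_pa _ ev_zero))
    obtain ⟨a₃, ha₃, e₃⟩ := hΓf a₂ _ ha₂ (ev_add _ _ hrev (ev_pa _ (ev_add _ _ hrev (ev_pa _ ev_zero))))
    have h := hΓ3 (enc (f + 0) 0)
    rw [e₁, e₂, e₃] at h
    have hev₁ : Ev (r + pa (τ * β) 0) := ev_add _ _ hrev (ev_pa _ ev_zero)
    have h2 := (enc_inj (ev_add _ _ hf (hfixμ a₃ ha₃).1)
      (ev_add _ _ hrev (ev_pa _ (ev_add _ _ hrev (ev_pa _ hev₁)))) (ev_add _ _ hf ev_zero) ev_zero h).2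
    rw [pa_zero, add_zero, CfsgLib.HJT.act_add] at h2
    refine norm_inj τ hτ2 hτ3 r hrev hrfix ?_
    have e : pa β⁻¹ r = pa (τ * β)⁻¹ r := by
      rw [mul_inv_rev, CfsgLib.HJT.act_mul, show τ⁻¹ = τ from inv_eq_of_mul_eq_one_right hτ2, hrfix]
    set γ := τ * β with hγ
    have hγi : γ⁻¹ = γ * γ := inv_eq_of_mul_eq_one_right (by rw [← mul_assoc, ← pow_two, ← pow_succ]; exact hτ3)
    have hγii : γ⁻¹ * γ⁻¹ = γ := by
      rw [← mul_inv_rev]
      exact inv_eq_of_mul_eq_one_right (by rw [← pow_two, ← pow_succ]; exact hτ3)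
    have hγ3 : γ⁻¹ * γ⁻¹ * γ⁻¹ = 1 := by rw [hγii, mul_inv_cancel]
    rw [e, ← CfsgLib.HJT.act_mul, ← CfsgLib.HJT.act_mul, hγ3, CfsgLib.HJT.act_one, hγii, hγi]
    rw [← h2, CfsgLib.HJT.act_mul]
    abel
  have ha₀0 : a₀ = 0 := by
    rcases ha₀l with e | e
    · exact e
    · exfalso
      have h := qf_oGroup g (enc f 0)
      rw [hgf, hr0, e, qf_enc _ _ (ev_add _ _ hf (ev_sing' _)) ev_zero, qf_enc _ _ hf ev_zero, CfsgLib.HJT.wt_zero,
        add_zero, add_zero] at h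
      exact wt_shift i' f hf hf1 h
  have hgf' : g.1 (enc f 0) = enc f 0 := by rw [hgf, hr0, ha₀0, add_zero]
  obtain ⟨p₀, hp₀, hp₀π⟩ := exists_Q1 D hf
  have hp₀c : x' * p₀ = p₀ * x' := by
    rcases eq_of_π D hp₀.1 (norm_Q D hx'C hp₀.1) (by rw [(π_conj hx'C hp₀.1).2, hp₀π, ← hg, hgf']) with e | e
    · calc x' * p₀ = x' * p₀ * x'⁻¹ * x' := by group
        _ = p₀ * x' := by rw [e]
    · exfalso
      set u := x' * b with hu
      have hu1 : u * p₀ * u⁻¹ = p₀ * z := by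
        rw [hu, show x' * b * p₀ * (x' * b)⁻¹ = x' * (b * p₀) * b⁻¹ * x'⁻¹ by group, (F.mem_Q1 hp₀.1).2 hp₀,
          show x' * (p₀ * b) * b⁻¹ * x'⁻¹ = x' * p₀ * x'⁻¹ by group, e]
      have huz : u * z * u⁻¹ = z := z_conj (mul_mem hx'C F.C)
      have hu2 : u * (p₀ * z) * u⁻¹ = p₀ * z * z := by
        rw [show u * (p₀ * z) * u⁻¹ = (u * p₀ * u⁻¹) * (u * z * u⁻¹) by group, hu1, huz]
      have hu3 : u * (p₀ * z * z) * u⁻¹ = p₀ * z * z * z := by
        rw [show u * (p₀ * z * z) * u⁻¹ = (u * (p₀ * z) * u⁻¹) * (u * z * u⁻¹) by group, hu2, huz]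
      have h3 : u ^ 3 * p₀ * (u ^ 3)⁻¹ = p₀ * z * z * z := by
        rw [← hu3, ← hu2, ← hu1]
        simp only [pow_succ, pow_zero, one_mul]; group
      rw [hu, hx'rel] at h3
      rw [one_mul, inv_one, mul_one, mul_assoc (p₀ * z), D.pre.gen.sq, mul_one, left_eq_mul] at h3
      exact D.pre.gen.ne_one h3
  have hx'K : x' ∈ K2 D := by
    refine Co1Five.mem_K2.2 ⟨hx'C, fun q hq => ?_⟩
    have hcases : dot (sing i') (dec1 (D.π q)) = 0 ∨ dot (sing i') (dec1 (D.π q)) = 1 := zmod2_cases _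
    rcases hcases with h | h
    · exact hperp q hq h
    · have h' := hperp (p₀ * q) (mul_mem hp₀ hq) (by
        rw [D.π_mul _ hp₀.1 _ hq.1, dec1_add, hp₀π, (dec_enc f 0 hf ev_zero).1]
        exact hyper_split i' f _ hf (ev_dec _).1 hf1 h)
      calc x' * q = p₀⁻¹ * (x' * (p₀ * q)) := by rw [← mul_assoc x', hp₀c]; group
        _ = q * x' := by rw [h']; group
  obtain ⟨τ', -, hτ'⟩ := K2_form hx'K
  have h2 : τ' * τ' = 1 := by
    have h := hg2
    rw [hg, hτ', ← map_mul, Prod.mk_mul_mk, ← map_one iota] at h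
    exact congrArg Prod.snd (iota_injective h)
  have h3 : (τ' * β) ^ 3 = 1 := by
    have h := hgβ
    rw [hΓ, hg, hτ', ← map_mul, Prod.mk_mul_mk, mul_one, ← map_pow, Prod.pow_mk, ← map_one iota] at h
    exact congrArg Prod.snd (iota_injective h)
  obtain ⟨i, hi⟩ := invol_conj_σ₀ τ' h2 h3
  set c := b ^ i.val with hc
  have hcC : c ∈ centralizer ({z} : Set G) := pow_mem F.C _
  have hcK : c ∈ K2 D := pow_mem F.mem_K2 _
  have hbc : c * b = b * c := (Commute.pow_self b _).eq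
  have S' : Split D b (c⁻¹ * x' * c) := ⟨mul_mem (mul_mem (inv_mem hcK) hx'K) hcK, by
    rw [show c⁻¹ * x' * c * (c⁻¹ * x' * c) = c⁻¹ * (x' * x') * c by group, hx'sq]; group, by
    rw [hact_mul (mul_mem (inv_mem hcC) hx'C) hcC, hact_mul (inv_mem hcC) hx'C, hact_inv hcC, hτ', hc, F.pow_hact,
      hi, ← map_inv, ← map_mul, ← map_mul]
    congr 1
    simp [mul_assoc], by
    rw [show c⁻¹ * x' * c * b = c⁻¹ * (x' * (c * b * c⁻¹)) * c⁻¹⁻¹ by group, hbc,
      show b * c * c⁻¹ = b by group, conj_pow, hx'rel]; group⟩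
  have hxx := F.split_unique S S'
  refine ⟨k * c, mem_cent_compl.2 ⟨?_, ?_⟩, ?_⟩
  · calc k * c * x = k * c * (c⁻¹ * x' * c) := by rw [hxx]
      _ = x * (k * c) := by rw [hx']; group
  · rw [mul_assoc, hbc, ← mul_assoc, hkb, mul_assoc]
  · calc k * c * z * (k * c)⁻¹ = k * (c * z * c⁻¹) * k⁻¹ := by group
      _ = s := by rw [z_conj hcC, hkz]

end Five

end CfsgLib.Co1Five
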