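import Cfsg.Agent.HJT.Space

/-!
Finite facts about the permutations of five points and the even-weight module.
-/

set_option autoImplicit false
set_option maxRecDepth 100000
set_option synthInstance.maxSize 4096

namespace CfsgLib.Co1Five

open CfsgLib.HJT (V5 Ev wt dot sing IsInv5)

local notation "pa" => CfsgLib.HJT.act

/-- The five-cycle. -/
def β : Equiv.Perm (Fin 5) := finRotate 5

/-- An involution whose product with the five-cycle has order three. -/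
def σ₀ : Equiv.Perm (Fin 5) := Equiv.swap 0 1 * Equiv.swap 2 3

theorem β_sign : Equiv.Perm.sign β = 1 := by decide +kernel

theorem β_pow : β ^ 5 = 1 := by decide +kernel

theorem β_ne : β ≠ 1 := by decide +kernel

theorem σ₀_inv : IsInv5 σ₀ := by decide +kernel

theorem σ₀_mul : (σ₀ * β) ^ 3 = 1 := by decide +kernel

theorem σ₀_β : σ₀ * β ≠ β * σ₀ := by decide +kernel

theorem fix_β : ∀ v : V5, Ev v → pa β v = v → v = 0 := by decide +kernel

theorem fix_β_pow : ∀ i : Fin 5, i ≠ 0 → ∀ v : V5, Ev v → pa (β ^ i.val) v = v → v = 0 := by decide +kernel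

theorem conj_β_pow : ∀ i : Fin 5, i ≠ 0 → ∃ τ : Equiv.Perm (Fin 5), τ * β ^ i.val * τ⁻¹ = β := by decide +kernel

theorem comm_β : ∀ τ : Equiv.Perm (Fin 5), τ * β = β * τ → ∃ i : Fin 5, τ = β ^ i.val := by decide +kernel

theorem image_β : ∀ v : V5, Ev v → ∃ w : V5, Ev w ∧ w + pa β w = v := by decide +kernel

theorem dual_exists : ∀ f : Fin 5 → ZMod 2, (∑ i, f i) = 0 → ∃ u : V5, Ev u ∧ ∀ i, dot u (sing i) = f i := by
  decide +kernel

/-- The norm along an element of order three is bijective between the two fixed planes. -/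
theorem norm_surj : ∀ v : V5, Ev v → pa (σ₀ * β) v = v → ∃ r : V5, Ev r ∧ pa σ₀ r = r ∧
    pa β⁻¹ r + (pa (σ₀ * β)⁻¹ (pa β⁻¹ r) + pa ((σ₀ * β)⁻¹ * (σ₀ * β)⁻¹) (pa β⁻¹ r)) = v := by decide +kernel

theorem norm_inj : ∀ τ : Equiv.Perm (Fin 5), τ * τ = 1 → (τ * β) ^ 3 = 1 → ∀ r : V5, Ev r → pa τ r = r →
    pa β⁻¹ r + (pa (τ * β)⁻¹ (pa β⁻¹ r) + pa ((τ * β)⁻¹ * (τ * β)⁻¹) (pa β⁻¹ r)) = 0 → r = 0 := by
  decide +kernel

theorem invol_conj_σ₀ : ∀ τ : Equiv.Perm (Fin 5), τ * τ = 1 → (τ * β) ^ 3 = 1 →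
    ∃ i : Fin 5, τ = β ^ i.val * σ₀ * (β ^ i.val)⁻¹ := by decide +kernel

theorem inv5_center : ∀ τ : Equiv.Perm (Fin 5), τ * σ₀ = σ₀ * τ → ∀ i : Fin 5, τ = β ^ i.val → τ = 1 := by
  decide +kernel

theorem inv5_cases : ∀ σ : Equiv.Perm (Fin 5), Equiv.Perm.sign σ = 1 → σ * σ = 1 → σ = 1 ∨ IsInv5 σ := by
  decide +kernel

theorem inv5_wt : ∀ σ : Equiv.Perm (Fin 5), IsInv5 σ → ∃ v : V5, Ev v ∧ wt (pa σ v + v) = 1 := by decide +kernel

theorem hyper_fix : ∀ σ : Equiv.Perm (Fin 5), ∀ i : Fin 5,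
    (∀ v : V5, Ev v → dot (sing i) v = 0 → pa σ v = v) → Equiv.Perm.sign σ = 1 → σ = 1 := by decide +kernel

theorem perp_image : ∀ σ : Equiv.Perm (Fin 5), IsInv5 σ → ∀ i : Fin 5, σ i = i → ∀ v : V5, Ev v →
    dot (sing i) v = 0 → pa σ v + v = 0 ∨ pa σ v + v = sing i := by decide +kernel

theorem perp_wt : ∀ i : Fin 5, ∀ v : V5, Ev v → dot (sing i) v = 0 → wt v = 0 → v = 0 ∨ v = sing i := by
  decide +kernel

theorem perp_fixed : ∀ σ : Equiv.Perm (Fin 5), IsInv5 σ → ∀ i : Fin 5, σ i = i → ∀ v : V5, Ev v →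
    dot (sing i) v = 0 → pa σ v = v → ∃ r : V5, Ev r ∧ dot (sing i) r = 1 ∧
      (v = 0 ∨ v = sing i ∨ v = pa σ r + r ∨ v = pa σ r + r + sing i) := by decide +kernel

theorem dot_comm' : ∀ u v : V5, dot u v = dot v u := by decide +kernel

theorem exists_off : ∀ i : Fin 5, ∃ f : V5, Ev f ∧ dot (sing i) f = 1 := by decide +kernel

theorem perp_dual : ∀ i : Fin 5, ∀ d : V5, Ev d → (∀ u : V5, Ev u → dot (sing i) u = 0 → dot d u = 0) →
    d = 0 ∨ d = sing i := by decide +kernel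

theorem sing_off_split : ∀ i : Fin 5, ∀ f : V5, Ev f → dot (sing i) f = 1 → ∀ v : V5, Ev v →
    dot (sing i) v = 0 ∨ dot (sing i) (v + f) = 0 := by decide +kernel

theorem singular_pair : ∀ u v : V5, Ev u → Ev v → wt u = 0 → wt v = 0 → dot u v = 0 → u = 0 ∨ v = 0 ∨ u = v := by
  decide +kernel

end CfsgLib.Co1Five
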