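import Cfsg.Agent.Co1Five.Compl
import Cfsg.Agent.HJT.SetupA5
import Cfsg.Agent.J2U.Main
import Cfsg.Agent.J2.Main

/-!
The centraliser of the element of order five: a direct product with the Hall–Janko group.
-/

set_option autoImplicit false
set_option maxRecDepth 100000
set_option synthInstance.maxSize 4096
set_option linter.style.haveILetI false
set_option linter.unusedSectionVars false

namespace CfsgLib.Co1Five

open CfsgLib CfsgLib.Quad CfsgLib.Co1Invol Subgroup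
open CfsgLib.HJT (V5 Ev wt dot sing IsInv5)

local notation "pa" => CfsgLib.HJT.act

universe u

/-- Recognition of the Hall–Janko group from a homomorphism of the involution centraliser. -/
theorem isoJ2_of_cent {Y : Type u} [Group Y] [Finite Y] (z : Y) (hz : orderOf z = 2) (Q : Subgroup Y)
    (hQ : Cfsg.IsExtraspecial 2 Q) (hcard : Nat.card Q = 32) (hle : Q ≤ centralizer ({z} : Set Y))
    (f : centralizer ({z} : Set Y) →* Equiv.Perm (Fin 5)) (hran : f.range = alternatingGroup (Fin 5))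
    (hker : ∀ c : centralizer ({z} : Set Y), f c = 1 ↔ (c : Y) ∈ Q)
    (hcq : ∀ c ∈ centralizer ({z} : Set Y), (∀ q ∈ Q, c * q = q * c) → c ∈ Q)
    (hnwc : ∃ g : Y, g * z * g⁻¹ ∈ Q ∧ g * z * g⁻¹ ≠ z)
    (hcl : ∃ x y : Y, orderOf x = 2 ∧ orderOf y = 2 ∧ ¬ IsConj x y) : Cfsg.Spor.IsoJ2 Y := by
  have hQ' : Q.subgroupOf (centralizer ({z} : Set Y)) = f.ker := by
    ext c; rw [mem_subgroupOf, MonoidHom.mem_ker, hker]
  haveI : (Q.subgroupOf (centralizer ({z} : Set Y))).Normal := hQ' ▸ MonoidHom.normal_ker f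
  obtain ⟨g, hg, hgz⟩ := hnwc
  obtain ⟨Qg, a, π, L⟩ := CfsgLib.HJT.exists_loc_alt z hz (Q.subgroupOf (centralizer ({z} : Set Y)))
    (fun c hc => mem_subgroupOf.2 (hcq _ c.2 fun q hq =>
      (congrArg Subtype.val (mem_centralizer_iff.1 hc ⟨q, hle hq⟩ (mem_subgroupOf.2 hq))).symm))
    (LargeExtra.isExtraspecial_equiv (subgroupOfEquivOfLe hle).symm hQ)
    (by rw [Nat.card_congr (subgroupOfEquivOfLe hle).toEquiv, hcard]; norm_num)
    (((QuotientGroup.quotientMulEquivOfEq hQ').trans (QuotientGroup.quotientKerEquivRange f)).trans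
      (MulEquiv.subgroupCongr hran))
    ⟨g, ⟨hle hg, mem_subgroupOf.2 hg⟩, hgz⟩ hcl
  exact CfsgLib.J2U.isoJ2_of_loc L

variable {G : Type u} [Group G] [Finite G] {z : G} {D : Dat z}

/-- An involution with non-singular displacement is not conjugate to the central one. -/
theorem not_conj_invol {g₀ : G} (h₀ : g₀ * z * g₀⁻¹ ∈ D.Q) (hne : g₀ * z * g₀⁻¹ ≠ z) {x : G}
    (hx : x ∈ centralizer ({z} : Set G)) (hx2 : x * x = 1) {σ : Equiv.Perm (Fin 5)} (hσ : IsInv5 σ)
    (ha : hact D x = iota (σ, 1)) : ¬ IsConj z x := by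
  intro hc
  obtain ⟨B⟩ := exists_base D h₀ hne
  obtain ⟨Su⟩ := B.exists_pr basis_mem.1 basis_mem.2.1
  obtain ⟨St⟩ := B.exists_pr basis_mem.2.2.2.2.2.2.1 basis_mem.2.2.2.2.2.2.2.1
  obtain ⟨v, hv, hwt⟩ := inv5_wt σ hσ
  have h := B.ts_of_conj St Su hx hx2 hc (enc v 0)
  rw [disp_apply, ha, iota_enc _ _ hv ev_zero, CfsgLib.HJT.act_one, ← enc_add, add_zero,
    qf_enc _ _ (ev_add _ _ (ev_pa _ hv) hv) ev_zero, CfsgLib.HJT.wt_zero, add_zero, hwt] at h
  exact one_ne_zero h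

namespace Five

variable {b : G} (F : Five D b)
include F

/-- The centraliser of the complement is of Hall–Janko type, of index five in the centraliser of the element. -/
theorem cent_data {g₀ : G} (h₀ : g₀ * z * g₀⁻¹ ∈ D.Q) (hne : g₀ * z * g₀⁻¹ ≠ z)
    (hQ : Cfsg.IsExtraspecial 2 (Q1 D)) (hcard : Nat.card (Q1 D) = 32) {x : G} (S : Split D b x) :
    Cfsg.Spor.IsoJ2 ↥(centralizer (compl b x : Set G)) ∧
      (∀ n ∈ centralizer ({b} : Set G), ∃ h ∈ centralizer (compl b x : Set G), ∃ i : ℤ, n = h * b ^ i) ∧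
      ∀ zH : ↥(centralizer (compl b x : Set G)), (zH : G) = z →
        Nat.card ↥(centralizer ({zH} : Set ↥(centralizer (compl b x : Set G)))) = 1920 := by
  classical
  haveI : Fact (Nat.Prime 2) := ⟨Nat.prime_two⟩
  set A := compl b x with hA
  set H := centralizer (A : Set G) with hH
  have hzH : z ∈ H := mem_cent_compl.2 ⟨z_comm S.C, z_comm F.C⟩
  set zH : H := ⟨z, hzH⟩ with hzH'
  have hz2 : orderOf z = 2 := Extra2.orderOf_gen D.pre.gen
  have hzo : orderOf zH = 2 := by rw [← Subgroup.orderOf_coe]; exact hz2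
  set C := centralizer ({zH} : Set H) with hC
  have hCz : ∀ c : H, c ∈ C ↔ (c : G) ∈ centralizer ({z} : Set G) := fun c => by
    rw [hC, mem_centralizer_singleton_iff, mem_Cz, Subtype.ext_iff]; rfl
  -- the homomorphism onto the alternating group
  have hform : ∀ c : C, ∃ σ, Equiv.Perm.sign σ = 1 ∧ hact D ((c : H) : G) = iota (σ, 1) := fun c =>
    ((F.cent_compl S ((hCz _).1 c.2)).1 (c : H).2).2
  choose sf hsf hact' using hform
  let f : C →* Equiv.Perm (Fin 5) := MonoidHom.mk' sf fun c d => by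
    have h := hact' (c * d)
    rw [show (((c * d : C) : H) : G) = ((c : H) : G) * ((d : H) : G) from rfl,
      hact_mul ((hCz _).1 c.2) ((hCz _).1 d.2), hact', hact', ← map_mul, Prod.mk_mul_mk, mul_one] at h
    exact (congrArg Prod.fst (iota_injective h)).symm
  have hfa : ∀ c : C, hact D ((c : H) : G) = iota (f c, 1) := hact'
  have hlift : ∀ σ, Equiv.Perm.sign σ = 1 → ∃ c : C, f c = σ := fun σ hσ => by
    obtain ⟨c, hc, hcb, ha⟩ := F.lift hσ
    have hcH : c ∈ H := (F.cent_compl S hc).2 ⟨hcb, σ, hσ, ha⟩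
    refine ⟨⟨⟨c, hcH⟩, (hCz _).2 hc⟩, ?_⟩
    have h := hfa ⟨⟨c, hcH⟩, (hCz _).2 hc⟩
    rw [show hact D c = iota (f ⟨⟨c, hcH⟩, (hCz _).2 hc⟩, 1) from h] at ha
    exact congrArg Prod.fst (iota_injective ha)
  have hran : f.range = alternatingGroup (Fin 5) := by
    ext σ
    rw [Equiv.Perm.mem_alternatingGroup]
    exact ⟨fun ⟨c, e⟩ => e ▸ hsf c, fun h => hlift σ h⟩
  set QH := (Q1 D).subgroupOf H with hQH
  have hQle : Q1 D ≤ H := fun q hq => F.Q1_cent S hq
  have hQC : QH ≤ C := fun q hq => (hCz q).2 (mem_C D (mem_subgroupOf.1 hq).1)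
  have hQHe : Cfsg.IsExtraspecial 2 QH := LargeExtra.isExtraspecial_equiv (subgroupOfEquivOfLe hQle).symm hQ
  have hQHc : Nat.card QH = 32 := by rw [Nat.card_congr (subgroupOfEquivOfLe hQle).toEquiv, hcard]
  have hker : ∀ c : C, f c = 1 ↔ (c : H) ∈ QH := by
    intro c
    rw [mem_subgroupOf]
    constructor
    · intro h
      have hQ' : ((c : H) : G) ∈ D.Q := mem_Q_of_hact ((hCz _).1 c.2) (by rw [hfa, h]; exact map_one iota)
      exact (F.mem_Q1 hQ').1 (mem_cent_compl.1 (c : H).2).2.symm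
    · intro h
      have h' := hfa c
      rw [hact_Q h.1, ← map_one iota] at h'
      exact (congrArg Prod.fst (iota_injective h')).symm
  have hcq : ∀ c ∈ C, (∀ q ∈ QH, c * q = q * c) → c ∈ QH := by
    intro c hc h
    refine (hker ⟨c, hc⟩).1 (perm_ext fun v hv => ?_)
    obtain ⟨q, hq, hqπ⟩ := exists_Q1 D hv
    have hh : (c : G) * q = q * c := congrArg Subtype.val (h ⟨q, hQle hq⟩ (mem_subgroupOf.2 hq))
    have h' := (π_conj ((hCz c).1 hc) hq.1).2
    rw [show (c : G) * q * (c : G)⁻¹ = q by rw [hh]; group, hfa ⟨c, hc⟩, hqπ, iota_enc _ _ hv ev_zero,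
      CfsgLib.HJT.act_one] at h'
    rw [CfsgLib.HJT.act_one]
    exact (enc_inj hv ev_zero (ev_pa _ hv) ev_zero h').1.symm
  -- fusion and the second class
  obtain ⟨s, hs, hsπ⟩ := exists_Q1 D (ev_sing' 0)
  have hs2 : qf (D.π s) = 0 := by
    rw [hsπ, qf_enc _ _ (ev_sing' 0) ev_zero, CfsgLib.HJT.wt_sing, CfsgLib.HJT.wt_zero, add_zero]
  have hs0 : D.π s ≠ 0 := by
    rw [hsπ, ← enc_zero]
    exact fun e => CfsgLib.HJT.sing_ne_zero 0 (enc_inj (ev_sing' 0) ev_zero ev_zero ev_zero e).1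
  have hsz : s ≠ z := fun e => hs0 (by rw [e, π_z])
  obtain ⟨k, hk, hkz⟩ := F.move_compl S h₀ hne hs hs2 hs0
  have hnwc : ∃ g : H, g * zH * g⁻¹ ∈ QH ∧ g * zH * g⁻¹ ≠ zH :=
    ⟨⟨k, hk⟩, mem_subgroupOf.2 (show k * z * k⁻¹ ∈ Q1 D by rw [hkz]; exact hs), fun e => hsz (by
      rw [← hkz]; exact congrArg Subtype.val e)⟩
  obtain ⟨x₁, hx₁C, hx₁b, hx₁₂, σ₁, hσ₁, hx₁a⟩ := F.exists_invol h₀ hne
  have hx₁H : x₁ ∈ H := (F.cent_compl S hx₁C).2 ⟨hx₁b, σ₁, hσ₁.2.2, hx₁a⟩
  have hx₁o : orderOf x₁ = 2 := orderOf_eq_prime (by rw [pow_two, hx₁₂]) fun e => hσ₁.2.1 (by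
    rw [e, hact_Q (one_mem _), ← map_one iota] at hx₁a
    exact (congrArg Prod.fst (iota_injective hx₁a)).symm)
  have hnc : ¬ IsConj z x₁ := not_conj_invol h₀ hne hx₁C hx₁₂ hσ₁ hx₁a
  have hclH : ∃ u v : H, orderOf u = 2 ∧ orderOf v = 2 ∧ ¬ IsConj u v :=
    ⟨zH, ⟨x₁, hx₁H⟩, hzo, by rw [← Subgroup.orderOf_coe]; exact hx₁o, fun h => hnc (H.subtype.map_isConj h)⟩
  have hJH : Cfsg.Spor.IsoJ2 H := isoJ2_of_cent zH hzo QH hQHe hQHc hQC f hran hker hcq hnwc hclH
  -- the centraliser of the element modulo its cyclic group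
  set N := centralizer ({b} : Set G) with hN
  have hmemN : ∀ n : G, n ∈ N ↔ n * b = b * n := fun n => mem_centralizer_singleton_iff
  have hHN : H ≤ N := fun h hh => (hmemN h).2 (mem_cent_compl.1 hh).2
  set BN := (zpowers b).subgroupOf N with hBN
  haveI : BN.Normal := ⟨fun n hn g => by
    rw [mem_subgroupOf] at hn ⊢
    obtain ⟨i, hi⟩ := mem_zpowers_iff.1 hn
    have hc : Commute (g : G) b := (hmemN g).1 g.2
    have : (g : G) * (n : G) * (g : G)⁻¹ = (n : G) := by rw [← hi, (hc.zpow_right i).eq, mul_inv_cancel_right]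
    simpa [this] using hn⟩
  let φ : H →* N ⧸ BN := (QuotientGroup.mk' BN).comp (Subgroup.inclusion hHN)
  have hφ0 : ∀ h : H, φ h = 1 ↔ (h : G) ∈ zpowers b := fun h => QuotientGroup.eq_one_iff _
  have hbx : ∀ i : ℤ, b ^ i ∈ H → b ^ i = 1 := by
    intro i hi
    obtain ⟨j, hj⟩ : ∃ j : ℕ, b ^ i = b ^ j := by
      obtain ⟨j, hj⟩ := mem_powers_iff_mem_zpowers.2 (⟨i, rfl⟩ : b ^ i ∈ zpowers b)
      exact ⟨j, hj.symm⟩
    rw [hj] at hi ⊢
    obtain ⟨-, σ, -, ha⟩ := (F.cent_compl S (pow_mem F.C j)).1 hi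
    rw [F.pow_hact] at ha
    have hj' := congrArg Prod.snd (iota_injective ha)
    have hdvd : 5 ∣ j := by
      rw [← orderOf_eq_prime (p := 5) (hp := ⟨Nat.prime_five⟩) β_pow β_ne]
      exact orderOf_dvd_of_pow_eq_one hj'
    obtain ⟨m, rfl⟩ := hdvd
    rw [pow_mul, F.pow, one_pow]
  have hφinj : Function.Injective φ := (injective_iff_map_eq_one _).2 fun h hh => by
    obtain ⟨i, hi⟩ := mem_zpowers_iff.1 ((hφ0 h).1 hh)
    exact Subtype.ext (show (h : G) = 1 by rw [← hi]; exact hbx i (hi ▸ h.2))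
  set zX := φ zH with hzX
  have hzXo : orderOf zX = 2 := (orderOf_injective φ hφinj zH).trans hzo
  set CX := centralizer ({zX} : Set (N ⧸ BN)) with hCX
  have hmap : ∀ c : C, φ (c : H) ∈ CX := fun c => mem_centralizer_singleton_iff.2 (by
    rw [hzX, ← map_mul, ← map_mul, mem_centralizer_singleton_iff.1 c.2])
  let ψ : C →* CX := (φ.comp C.subtype).codRestrict CX hmap
  have hconjB : ∀ (n : N) (h h' : H), (h : G) * (h : G) = 1 → (h' : G) * (h' : G) = 1 →
      (QuotientGroup.mk' BN n) * φ h * (QuotientGroup.mk' BN n)⁻¹ = φ h' → (n : G) * h * (n : G)⁻¹ = h' := by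
    intro n h h' h2 h2' e
    have e' : QuotientGroup.mk' BN (n * inclusion hHN h * n⁻¹) = QuotientGroup.mk' BN (inclusion hHN h') := by
      rw [map_mul, map_mul, map_inv]; exact e
    obtain ⟨⟨c, hc⟩, hcB, hce⟩ := (QuotientGroup.mk'_eq_mk' BN).1 e'
    have hce' : (n : G) * h * (n : G)⁻¹ * c = h' := congrArg Subtype.val hce
    have hcc : ((n : G) * h * (n : G)⁻¹) * c = c * ((n : G) * h * (n : G)⁻¹) := by
      obtain ⟨i, hi⟩ := mem_zpowers_iff.1 (mem_subgroupOf.1 hcB)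
      have hcomm : Commute ((n : G) * h * (n : G)⁻¹) b :=
        (hmemN _).1 (mul_mem (mul_mem n.2 (hHN h.2)) (inv_mem n.2))
      show _ = _
      rw [show c = b ^ i from hi.symm]
      exact (hcomm.zpow_right i).eq
    have hsq : c * c = 1 := by
      have hh := h2'
      rw [← hce', show (n : G) * h * (n : G)⁻¹ * c * ((n : G) * h * (n : G)⁻¹ * c) =
        (n : G) * h * (n : G)⁻¹ * (c * ((n : G) * h * (n : G)⁻¹)) * c by group, ← hcc,
        show (n : G) * h * (n : G)⁻¹ * ((n : G) * h * (n : G)⁻¹ * c) * c =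
        (n : G) * ((h : G) * h) * (n : G)⁻¹ * (c * c) by group, h2, mul_one, mul_inv_cancel, one_mul] at hh
      exact hh
    have hc5 : c ^ 5 = 1 := by
      obtain ⟨i, hi⟩ := mem_zpowers_iff.1 (mem_subgroupOf.1 hcB)
      rw [show c = b ^ i from hi.symm, ← zpow_natCast, ← zpow_mul, mul_comm, zpow_mul, zpow_natCast, F.pow, one_zpow]
    have hc1 : c = 1 := by
      rwa [show (5 : ℕ) = 2 * 2 + 1 from rfl, pow_succ, pow_mul, pow_two c, hsq, one_pow, one_mul] at hc5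
    rw [← hce', hc1, mul_one]
  have hψs : Function.Surjective ψ := by
    rintro ⟨y, hy⟩
    obtain ⟨n, rfl⟩ := QuotientGroup.mk'_surjective BN y
    have hzz : (n : G) * z * (n : G)⁻¹ = z := hconjB n zH zH D.pre.gen.sq D.pre.gen.sq (by
      rw [show (QuotientGroup.mk' BN n) * φ zH = φ zH * (QuotientGroup.mk' BN n) from
        mem_centralizer_singleton_iff.1 hy, mul_inv_cancel_right])
    have hnC : (n : G) ∈ centralizer ({z} : Set G) := mem_Cz.2 (by
      calc (n : G) * z = (n : G) * z * (n : G)⁻¹ * n := by group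
        _ = z * n := by rw [hzz])
    obtain ⟨σ, i, hσ, ha⟩ := F.cent_form hnC ((hmemN _).1 n.2)
    set m := (n : G) * (b ^ i.val)⁻¹ with hm
    have hmC : m ∈ centralizer ({z} : Set G) := mul_mem hnC (inv_mem (pow_mem F.C _))
    have hmb : m * b = b * m := by
      rw [hm]
      exact (Commute.mul_left ((hmemN _).1 n.2) ((Commute.refl b).pow_left _).inv_left).eq
    have hma : hact D m = iota (σ, 1) := by
      rw [hm, hact_mul hnC (inv_mem (pow_mem F.C _)), hact_inv (pow_mem F.C _), ha, F.pow_hact, ← map_inv, ← map_mul]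
      simp
    have hmH : m ∈ H := (F.cent_compl S hmC).2 ⟨hmb, σ, hσ, hma⟩
    refine ⟨⟨⟨m, hmH⟩, (hCz _).2 hmC⟩, Subtype.ext ?_⟩
    show QuotientGroup.mk' BN (inclusion hHN ⟨m, hmH⟩) = QuotientGroup.mk' BN n
    refine (QuotientGroup.mk'_eq_mk' BN).2 ⟨⟨b ^ i.val, (hmemN _).2 (Commute.pow_self b _).eq⟩,
      mem_subgroupOf.2 (pow_mem (mem_zpowers b) _), Subtype.ext ?_⟩
    show m * b ^ i.val = n
    rw [hm, inv_mul_cancel_right]
  have hψi : Function.Injective ψ := fun a c e => Subtype.ext (hφinj (congrArg Subtype.val e))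
  let eψ : C ≃* CX := MulEquiv.ofBijective ψ ⟨hψi, hψs⟩
  have hJX : Cfsg.Spor.IsoJ2 (N ⧸ BN) := by
    refine isoJ2_of_cent zX hzXo (QH.map φ) (LargeExtra.isExtraspecial_equiv (QH.equivMapOfInjective φ hφinj) hQHe)
      (by rw [card_map_of_injective hφinj, hQHc]) ?_ (f.comp eψ.symm.toMonoidHom) ?_ ?_ ?_ ?_ ?_
    · rintro _ ⟨q, hq, rfl⟩
      exact hmap ⟨q, hQC hq⟩
    · rw [MonoidHom.range_comp, MonoidHom.range_eq_top.2 eψ.symm.surjective, ← MonoidHom.range_eq_map, hran]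
    · intro y
      obtain ⟨c, rfl⟩ := eψ.surjective y
      show f (eψ.symm (eψ c)) = 1 ↔ φ (c : H) ∈ QH.map φ
      rw [eψ.symm_apply_apply, hker, mem_map_iff_mem hφinj]
    · intro y hy hcomm
      obtain ⟨c, hc⟩ := hψs ⟨y, hy⟩
      have hcy : φ (c : H) = y := congrArg Subtype.val hc
      rw [← hcy, mem_map_iff_mem hφinj]
      exact hcq _ c.2 fun q hq => hφinj (by rw [map_mul, map_mul, hcy]; exact hcomm _ ⟨q, hq, rfl⟩)
    · obtain ⟨g, hg, hgne⟩ := hnwc
      exact ⟨φ g, by rw [hzX, ← map_inv, ← map_mul, ← map_mul]; exact ⟨_, hg, rfl⟩, fun e => hgne (hφinj (by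
        rw [map_mul, map_mul, map_inv]; exact e))⟩
    · refine ⟨zX, φ ⟨x₁, hx₁H⟩, hzXo, (orderOf_injective φ hφinj _).trans (by
        rw [← Subgroup.orderOf_coe]; exact hx₁o), fun h => hnc ?_⟩
      obtain ⟨y, hy⟩ := isConj_iff.1 h
      obtain ⟨n, rfl⟩ := QuotientGroup.mk'_surjective BN y
      exact isConj_iff.2 ⟨(n : G), hconjB n zH ⟨x₁, hx₁H⟩ D.pre.gen.sq hx₁₂ hy⟩
  -- the direct decomposition
  obtain ⟨eH⟩ := hJH
  obtain ⟨eX⟩ := hJX
  have hφs : Function.Surjective φ :=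
    (Finite.injective_iff_surjective_of_equiv (eH.trans eX.symm).toEquiv).1 hφinj
  have hdec : ∀ n : N, ∃ h : H, ∃ i : ℤ, (n : G) = h * b ^ i := fun n => by
    obtain ⟨h, hh⟩ := hφs (QuotientGroup.mk' BN n)
    obtain ⟨c, hcB, hce⟩ := (QuotientGroup.mk'_eq_mk' BN).1 hh
    obtain ⟨i, hi⟩ := mem_zpowers_iff.1 (mem_subgroupOf.1 hcB)
    exact ⟨h, i, by rw [hi]; exact (congrArg Subtype.val hce).symm⟩
  refine ⟨⟨eH⟩, fun n hn => ?_, fun zH₀ h₀z => ?_⟩
  · obtain ⟨h, i, e⟩ := hdec ⟨n, hn⟩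
    exact ⟨h, h.2, i, e⟩
  · rw [show zH₀ = zH from Subtype.ext h₀z, ← hC, ← Subgroup.card_mul_index f.ker, Subgroup.index_ker, hran,
      show f.ker = QH.subgroupOf C from Subgroup.ext fun c => by rw [MonoidHom.mem_ker, hker, mem_subgroupOf (H := QH)],
      Nat.card_congr (subgroupOfEquivOfLe hQC).toEquiv, hQHc, Nat.card_eq_fintype_card,
      show Fintype.card (alternatingGroup (Fin 5)) = 60 by decide]

/-- The structure of the centraliser. -/
theorem structure_thm {g₀ : G} (h₀ : g₀ * z * g₀⁻¹ ∈ D.Q) (hne : g₀ * z * g₀⁻¹ ≠ z)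
    (hQ : Cfsg.IsExtraspecial 2 (Q1 D)) (hcard : Nat.card (Q1 D) = 32) :
    Cfsg.Spor.IsoJ2 ↥(Cfsg.layer ↥(centralizer ({b} : Set G))) ∧
      Nonempty (↥(centralizer (((Cfsg.layer ↥(centralizer ({b} : Set G))).map (Subgroup.subtype _)) : Set G)) ≃*
        alternatingGroup (Fin 5)) := by
  classical
  haveI : Fact (Nat.Prime 2) := ⟨Nat.prime_two⟩
  obtain ⟨x, S⟩ := F.exists_split h₀ hne
  set A := compl b x with hA
  set H := centralizer (A : Set G) with hH
  obtain ⟨hJH, hdata, -⟩ := F.cent_data h₀ hne hQ hcard S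
  obtain ⟨eH⟩ := hJH
  have hzH : z ∈ H := mem_cent_compl.2 ⟨z_comm S.C, z_comm F.C⟩
  set zH : H := ⟨z, hzH⟩ with hzH'
  have hQle : Q1 D ≤ H := fun q hq => F.Q1_cent S hq
  set N := centralizer ({b} : Set G) with hN
  have hHN : H ≤ N := fun h hh => mem_centralizer_singleton_iff.2 (mem_cent_compl.1 hh).2
  have hdec : ∀ n : N, ∃ h : H, ∃ i : ℤ, (n : G) = h * b ^ i := fun n => by
    obtain ⟨h, hh, i, e⟩ := hdata n n.2
    exact ⟨⟨h, hh⟩, i, e⟩
  set HN := H.subgroupOf N with hHN'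
  have hbc : ∀ (i : ℤ) (h : G), h ∈ H → b ^ i * h = h * b ^ i := fun i h hh =>
    ((Commute.zpow_right (show Commute h b from (mem_cent_compl.1 hh).2) i).eq).symm
  haveI hHNn : HN.Normal := ⟨fun h hh n => by
    rw [mem_subgroupOf] at hh ⊢
    obtain ⟨m, i, e⟩ := hdec n
    show (n : G) * (h : G) * (n : G)⁻¹ ∈ H
    rw [e, show (m : G) * b ^ i * (h : G) * ((m : G) * b ^ i)⁻¹ =
      (m : G) * (b ^ i * (h : G) * (b ^ i)⁻¹) * (m : G)⁻¹ by group, hbc i _ hh, mul_inv_cancel_right]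
    exact mul_mem (mul_mem m.2 hh) (inv_mem m.2)⟩
  let eHN : HN ≃* Cfsg.Spor.J2 := (subgroupOfEquivOfLe hHN).trans eH
  haveI : IsSimpleGroup Cfsg.Spor.J2 := CfsgLib.J2.simple_J2
  haveI hsimp : IsSimpleGroup HN := eHN.isSimpleGroup
  have hnoncomm : ∃ p q : HN, p * q ≠ q * p := by
    obtain ⟨p, q, h⟩ := CfsgLib.J2.noncomm_J2
    exact ⟨eHN.symm p, eHN.symm q, fun e => h (by simpa using congrArg eHN e)⟩
  have hperf : commutator HN = ⊤ := ((inferInstance : (commutator ↥HN).Normal).eq_bot_or_eq_top).resolve_left fun e => by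
      obtain ⟨p, q, h⟩ := hnoncomm
      have := Subgroup.commutator_mem_commutator (mem_top p) (mem_top q)
      rw [← _root_.commutator_def, e, mem_bot, commutatorElement_eq_one_iff_mul_comm] at this
      exact h this
  have hcen : center HN = ⊥ := ((inferInstance : (center HN).Normal).eq_bot_or_eq_top).resolve_right fun e => by
    obtain ⟨p, q, h⟩ := hnoncomm
    exact h (mem_center_iff.1 (e ▸ mem_top q) p)
  have hqs : Cfsg.IsQuasisimple HN := by
    refine ⟨Group.isPerfect_def.2 hperf, ?_⟩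
    haveI : IsSimpleGroup HN := hsimp
    exact ((QuotientGroup.quotientMulEquivOfEq hcen).trans QuotientGroup.quotientBot).isSimpleGroup
  have hcomp : Cfsg.IsComponent HN := ⟨hHNn.isSubnormal, hqs⟩
  have hlay : Cfsg.layer N = HN := by
    refine le_antisymm ?_ (CfsgLib.Comp.component_le_layer hcomp)
    rw [← CfsgLib.Comp.layer_perfect]
    refine commutator_le.2 fun p _ q _ => ?_
    rw [mem_subgroupOf]
    obtain ⟨h, i, e⟩ := hdec p
    obtain ⟨h', i', e'⟩ := hdec q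
    show (p : G) * q * (p : G)⁻¹ * (q : G)⁻¹ ∈ H
    rw [e, e']
    have hbb : b ^ i * b ^ i' = b ^ i' * b ^ i := (Commute.refl b).zpow_zpow i i' |>.eq
    rw [show (h : G) * b ^ i * ((h' : G) * b ^ i') * ((h : G) * b ^ i)⁻¹ * ((h' : G) * b ^ i')⁻¹ =
      (h : G) * (b ^ i * (h' : G)) * b ^ i' * (b ^ i)⁻¹ * ((h : G)⁻¹ * (b ^ i')⁻¹) * (h' : G)⁻¹ by group,
      hbc i _ h'.2, show ((h : G)⁻¹ * (b ^ i')⁻¹) = (b ^ i')⁻¹ * (h : G)⁻¹ by
        rw [← zpow_neg]; exact (hbc (-i') _ (inv_mem h.2)).symm,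
      show (h : G) * ((h' : G) * b ^ i) * b ^ i' * (b ^ i)⁻¹ * ((b ^ i')⁻¹ * (h : G)⁻¹) * (h' : G)⁻¹ =
        (h : G) * (h' : G) * (b ^ i * b ^ i') * (b ^ i' * b ^ i)⁻¹ * (h : G)⁻¹ * (h' : G)⁻¹ by group,
      hbb, mul_inv_cancel_right]
    exact mul_mem (mul_mem (mul_mem h.2 h'.2) (inv_mem h.2)) (inv_mem h'.2)
  refine ⟨?_, ?_⟩
  · rw [hlay]; exact ⟨eHN⟩
  -- the centraliser of the layer
  rw [hlay, show HN.map N.subtype = H by rw [hHN', subgroupOf_map_subtype, inf_eq_left.2 hHN]]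
  have hxA : x ∈ A := subset_closure (Or.inl rfl)
  have hbA : b ∈ A := subset_closure (Or.inr rfl)
  have hAle : A ≤ centralizer (H : Set G) := fun a ha => mem_centralizer_iff.2 fun h hh =>
    ((mem_centralizer_iff.1 hh) a ha).symm
  set M := centralizer (H : Set G) with hM
  have hMC : ∀ m ∈ M, m ∈ centralizer ({z} : Set G) := fun m hm =>
    mem_Cz.2 (mem_centralizer_iff.1 hm z hzH).symm
  have hMK : ∀ m ∈ M, m ∈ K2 D := fun m hm =>
    Co1Five.mem_K2.2 ⟨hMC m hm, fun q hq => (mem_centralizer_iff.1 hm q (hQle hq)).symm⟩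
  have hzM : z ∉ M := fun hz => by
    -- a central involution of a simple group
    have hzc : (⟨zH, hHN zH.2⟩ : N) ∈ HN := mem_subgroupOf.2 hzH
    have : (⟨_, hzc⟩ : HN) ∈ center HN := mem_center_iff.2 fun h => Subtype.ext (Subtype.ext
      (mem_centralizer_iff.1 hz _ (mem_subgroupOf.1 h.2)))
    rw [hcen, mem_bot] at this
    exact D.pre.gen.ne_one (congrArg (fun t : HN => ((t : N) : G)) this)
  have hMQ : ∀ q ∈ M, q ∈ D.Q → q = 1 := by
    intro q hqM hqQ
    have hq2 := K2_Q (hMK q hqM) hqQ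
    have hsq : ∀ r ∈ M, r ∈ D.Q → r * r = 1 := fun r hr hrQ =>
      (sq_cases D hrQ).resolve_right fun e => hzM (e ▸ mul_mem hr hr)
    set r := b * q * b⁻¹ with hr
    have hbM : b ∈ M := hAle hbA
    have hrM : r ∈ M := mul_mem (mul_mem hbM hqM) (inv_mem hbM)
    have hrQ : r ∈ D.Q := norm_Q D F.C hqQ
    set w := dec2 (D.π q) with hw
    have hqπ : D.π q = enc 0 w := Q2_π hq2
    have hrπ : D.π r = enc 0 (pa β w) := by
      rw [hr, (π_conj F.C hqQ).2, F.eq, hqπ, iota_enc _ _ ev_zero (ev_dec _).2, pa_zero]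
    have hwev : Ev w := (ev_dec _).2
    have hwt0 : wt w = 0 := by
      have h := (D.sq_iff q hqQ).1 (hsq q hqM hqQ)
      rwa [hqπ, qf_enc _ _ ev_zero hwev, CfsgLib.HJT.wt_zero, zero_add] at h
    have hwt1 : wt (pa β w) = 0 := by rw [wt_pa, hwt0]
    have hwt2 : wt (w + pa β w) = 0 := by
      have h := (D.sq_iff (q * r) (mul_mem hqQ hrQ)).1 (hsq _ (mul_mem hqM hrM) (mul_mem hqQ hrQ))
      rwa [D.π_mul q hqQ r hrQ, hqπ, hrπ, ← enc_add, add_zero, qf_enc _ _ ev_zero (ev_add _ _ hwev (ev_pa _ hwev)),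
        CfsgLib.HJT.wt_zero, zero_add] at h
    have hdot : dot w (pa β w) = 0 := by
      have h := CfsgLib.HJT.wt_add w (pa β w) hwev (ev_pa _ hwev)
      rw [hwt2, hwt0, hwt1, zero_add, zero_add] at h
      exact h.symm
    have hw0 : w = 0 := by
      rcases singular_pair w _ hwev (ev_pa _ hwev) hwt0 hwt1 hdot with e | e | e
      · exact e
      · have h' : pa β⁻¹ (pa β w) = pa β⁻¹ 0 := by rw [e]
        rwa [← CfsgLib.HJT.act_mul, inv_mul_cancel, CfsgLib.HJT.act_one, pa_zero] at h'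
      · exact fix_β w hwev e.symm
    rcases (D.π_eq_zero q hqQ).1 (by rw [hqπ, hw0, enc_zero]) with e | e
    · exact e
    · exact absurd (e ▸ hqM) hzM
  -- the image of the centraliser in the permutations of the second block
  have hform' : ∀ m : M, ∃ τ, Equiv.Perm.sign τ = 1 ∧ hact D (m : G) = iota (1, τ) := fun m => K2_form (hMK _ m.2)
  choose tf htf hact'' using hform'
  let χ : M →* Equiv.Perm (Fin 5) := MonoidHom.mk' tf fun c d => by
    have h := hact'' (c * d)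
    rw [show ((c * d : M) : G) = (c : G) * (d : G) from rfl, hact_mul (hMC _ c.2) (hMC _ d.2), hact'', hact'',
      ← map_mul, Prod.mk_mul_mk, one_mul] at h
    exact (congrArg Prod.snd (iota_injective h)).symm
  have hχa : ∀ m : M, hact D (m : G) = iota (1, χ m) := hact''
  have hχi : Function.Injective χ := (injective_iff_map_eq_one _).2 fun m hm => Subtype.ext
    (hMQ m m.2 (mem_Q_of_hact (hMC _ m.2) (by rw [hχa, hm]; exact map_one iota)))
  have hχr : χ.range = alternatingGroup (Fin 5) := by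
    refine le_antisymm ?_ fun τ hτ => ?_
    · rintro _ ⟨m, rfl⟩
      exact Equiv.Perm.mem_alternatingGroup.2 (htf m)
    · obtain ⟨n, i, e⟩ := alt_word τ (Equiv.Perm.mem_alternatingGroup.1 hτ)
      set xM : M := ⟨x, hAle hxA⟩
      set bM : M := ⟨b, hAle hbA⟩
      have hχx : χ xM = σ₀ := (congrArg Prod.snd (iota_injective ((hχa xM).symm.trans S.act)))
      have hχb : χ bM = β := (congrArg Prod.snd (iota_injective ((hχa bM).symm.trans F.eq)))
      exact ⟨rep xM bM n * bM ^ i.val, by rw [map_mul, map_pow, map_rep, hχx, hχb, ← e]⟩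
  exact ⟨(MonoidHom.ofInjective hχi).trans (MulEquiv.subgroupCongr hχr)⟩

end Five

end CfsgLib.Co1Five
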