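import Cfsg.Agent.Co1Five.Space
import Cfsg.Agent.Co1Five.Facts

/-!
A subgroup of order five of the involution centraliser with a non-central fixed point on the extraspecial
group, in normal form.
-/

set_option autoImplicit false
set_option maxRecDepth 100000
set_option synthInstance.maxSize 4096
set_option linter.style.haveILetI false
set_option linter.unusedSectionVars false

namespace CfsgLib.Co1Five

open CfsgLib CfsgLib.Quad CfsgLib.Co1Invol Subgroup
open CfsgLib.HJT (V5 Ev wt dot sing)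

local notation "pa" => CfsgLib.HJT.act

variable {G : Type*} [Group G] [Finite G] {z : G}

theorem mem_Cz {c : G} : c ∈ centralizer ({z} : Set G) ↔ c * z = z * c := mem_centralizer_singleton_iff

theorem norm_Q (D : Dat z) {c q : G} (hc : c ∈ centralizer ({z} : Set G)) (hq : q ∈ D.Q) : c * q * c⁻¹ ∈ D.Q :=
  (mem_normalizer_iff.1 (D.pre.norm hc) q).1 hq

theorem norm_Q' (D : Dat z) {c q : G} (hc : c ∈ centralizer ({z} : Set G)) (hq : q ∈ D.Q) : c⁻¹ * q * c ∈ D.Q := by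
  simpa using norm_Q D (inv_mem hc) hq

theorem z_mem (D : Dat z) : z ∈ D.Q := D.pre.gen.mem

theorem z_Cz : z ∈ centralizer ({z} : Set G) := mem_Cz.2 rfl

theorem z_comm {c : G} (hc : c ∈ centralizer ({z} : Set G)) : z * c = c * z := (mem_Cz.1 hc).symm

theorem z_conj {c : G} (hc : c ∈ centralizer ({z} : Set G)) : c * z * c⁻¹ = z := by
  rw [mem_Cz.1 hc, mul_inv_cancel_right]

/-- An element with fifth power one fixing a point of the quotient centralises its preimage. -/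
theorem comm_of_fix (D : Dat z) {b q : G} (hb : b ∈ centralizer ({z} : Set G)) (hb5 : b ^ 5 = 1) (hq : q ∈ D.Q)
    (h : (hact D b).1 (D.π q) = D.π q) : b * q = q * b := by
  have hbq := norm_Q D hb hq
  rcases eq_of_π D hq hbq (by rw [(π_conj hb hq).2, h]) with e | e
  · conv_rhs => rw [← e]
    group
  · exfalso
    have hn : ∀ n : ℕ, b ^ n * q * (b ^ n)⁻¹ = q * z ^ n := by
      intro n
      induction n with
      | zero => simp
      | succ n ih =>
        calc b ^ (n + 1) * q * (b ^ (n + 1))⁻¹ = b * (b ^ n * q * (b ^ n)⁻¹) * b⁻¹ := by group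
          _ = (b * q * b⁻¹) * (b * z ^ n * b⁻¹) := by rw [ih]; group
          _ = q * z ^ (n + 1) := by rw [e, ← conj_pow, z_conj hb, mul_assoc, ← pow_succ']
    have h5 := hn 5
    rw [hb5, one_mul, inv_one, mul_one, left_eq_mul] at h5
    refine D.pre.gen.ne_one ?_
    have hz2 : z ^ 2 = 1 := by rw [pow_two, D.pre.gen.sq]
    rw [show (5 : ℕ) = 2 * 2 + 1 from rfl, pow_succ, pow_mul, hz2, one_pow, one_mul] at h5
    exact h5

/-- The element of order five in normal form. -/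
structure Five (D : Dat z) (b : G) : Prop where
  C : b ∈ centralizer ({z} : Set G)
  pow : b ^ 5 = 1
  eq : hact D b = iota (1, β)

theorem iota_β_mem : iota (1, β) ∈ commutator (oGroup q8) :=
  (iota_mem_iff 1 β).2 (by rw [map_one, β_sign])

theorem Five.ne_one {D : Dat z} {b : G} (F : Five D b) : b ≠ 1 := fun e => by
  have h := F.eq
  rw [e, hact_Q (one_mem _), ← map_one iota] at h
  exact β_ne (congrArg Prod.snd (iota_injective h)).symm

/-- Elements of fifth power one with the same image are conjugate under the extraspecial group. -/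
theorem exists_conj_of_hact (D : Dat z) {b b' : G} (hb : b ∈ centralizer ({z} : Set G))
    (hb' : b' ∈ centralizer ({z} : Set G)) (h5 : b ^ 5 = 1) (h5' : b' ^ 5 = 1) (h : hact D b = hact D b')
    (hne : hact D b' ≠ 1) : ∃ q ∈ D.Q, q * b * q⁻¹ = b' := by
  classical
  haveI : Fact (Nat.Prime 5) := ⟨by norm_num⟩
  set Cz := centralizer ({z} : Set G) with hCz
  set M : Subgroup Cz := (zpowers (D.act ⟨b', hb'⟩)).comap D.act with hM
  have hne' : D.act ⟨b', hb'⟩ ≠ 1 := by rwa [← hact_eq hb']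
  have hbM : (⟨b, hb⟩ : Cz) ∈ M := by
    show D.act ⟨b, hb⟩ ∈ zpowers (D.act ⟨b', hb'⟩)
    rw [← hact_eq hb, h, hact_eq hb']; exact mem_zpowers _
  have hb'M : (⟨b', hb'⟩ : Cz) ∈ M := by
    show D.act _ ∈ zpowers (D.act ⟨b', hb'⟩)
    exact mem_zpowers _
  have hord : orderOf (D.act ⟨b', hb'⟩) = 5 := orderOf_eq_prime (by
    rw [← map_pow, show (⟨b', hb'⟩ : Cz) ^ 5 = 1 from Subtype.ext h5', map_one]) hne'
  have hcard : Nat.card M = 2560 := by
    let f : M →* O8 := D.act.comp M.subtype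
    have h1 := f.ker.card_mul_index
    rw [Subgroup.index_ker] at h1
    have hr : f.range = zpowers (D.act ⟨b', hb'⟩) := by
      ext x
      constructor
      · rintro ⟨c, rfl⟩; exact c.2
      · intro hx
        obtain ⟨n, rfl⟩ := mem_zpowers_iff.1 hx
        exact ⟨⟨⟨b', hb'⟩ ^ n, zpow_mem hb'M n⟩, map_zpow D.act _ n⟩
    have hk : Nat.card f.ker = Nat.card D.Q := by
      refine Nat.card_congr ⟨fun c => ⟨((c.1 : Cz) : G), (D.act_eq_one _).1 c.2⟩,
        fun q => ⟨⟨⟨q, mem_C D q.2⟩, ?_⟩, (D.act_eq_one _).2 q.2⟩, fun c => rfl, fun q => rfl⟩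
      show D.act ⟨q, mem_C D q.2⟩ ∈ zpowers (D.act ⟨b', hb'⟩)
      rw [(D.act_eq_one ⟨q, mem_C D q.2⟩).2 q.2]; exact one_mem _
    rw [hr, hk, D.card, Nat.card_zpowers, hord] at h1
    omega
  have hfac : (Nat.card M).factorization 5 = 1 := by
    rw [hcard, show 2560 = 5 ^ 1 * 512 by norm_num,
      Nat.factorization_mul (by norm_num) (by norm_num)]
    simp [Nat.prime_five.factorization, Nat.factorization_eq_zero_of_not_dvd]
  have key : ∀ (x : G) (hx : x ∈ Cz) (hxM : (⟨x, hx⟩ : Cz) ∈ M), x ^ 5 = 1 → x ≠ 1 →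
      ∃ P : Sylow 5 M, (P : Subgroup M) = zpowers ⟨⟨x, hx⟩, hxM⟩ := by
    intro x hx hxM hx5 hx1
    have hc : Nat.card (zpowers (⟨⟨x, hx⟩, hxM⟩ : M)) = 5 := ?_
    · exact ⟨Sylow.ofCard (zpowers (⟨⟨x, hx⟩, hxM⟩ : M)) (by rw [hfac, pow_one, hc]), rfl⟩
    rw [Nat.card_zpowers]
    exact orderOf_eq_prime (Subtype.ext (Subtype.ext hx5)) fun e => hx1 (congrArg (fun t : M => ((t : Cz) : G)) e)
  obtain ⟨P, hP⟩ := key b hb hbM h5 fun e => hne (by rw [← h, e, hact_Q (one_mem _)])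
  obtain ⟨P', hP'⟩ := key b' hb' hb'M h5' fun e => hne (by rw [e, hact_Q (one_mem _)])
  obtain ⟨m, hm⟩ := MulAction.exists_smul_eq M P P'
  have hmem : m * ⟨⟨b, hb⟩, hbM⟩ * m⁻¹ ∈ zpowers (⟨⟨b', hb'⟩, hb'M⟩ : M) := by
    rw [← hP', ← hm]
    refine mem_map.2 ⟨⟨⟨b, hb⟩, hbM⟩, hP ▸ mem_zpowers _, rfl⟩
  obtain ⟨k, hk⟩ := mem_zpowers_iff.1 hmem
  obtain ⟨j, hj⟩ := mem_zpowers_iff.1 (show D.act (m : Cz) ∈ zpowers (D.act ⟨b', hb'⟩) from m.2)
  -- remove the image of `m`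
  set q : Cz := (⟨b', hb'⟩ : Cz) ^ (-j) * (m : Cz) with hq
  have hqQ : (q : G) ∈ D.Q := (D.act_eq_one q).1 (by rw [hq, map_mul, map_zpow, ← hj, zpow_neg, inv_mul_cancel])
  have hconj : (q : Cz) * ⟨b, hb⟩ * q⁻¹ = ⟨b', hb'⟩ ^ k := by
    have hk' : (⟨b', hb'⟩ : Cz) ^ k = (m : Cz) * ⟨b, hb⟩ * (m : Cz)⁻¹ := congrArg (fun t : M => (t : Cz)) hk
    rw [hq, show (⟨b', hb'⟩ : Cz) ^ (-j) * (m : Cz) * ⟨b, hb⟩ * ((⟨b', hb'⟩ : Cz) ^ (-j) * (m : Cz))⁻¹ =
      (⟨b', hb'⟩ : Cz) ^ (-j) * ((m : Cz) * ⟨b, hb⟩ * (m : Cz)⁻¹) * ((⟨b', hb'⟩ : Cz) ^ (-j))⁻¹ by group, ← hk']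
    group
  refine ⟨q, hqQ, ?_⟩
  have hk1 : (D.act ⟨b', hb'⟩) ^ k = D.act ⟨b', hb'⟩ := by
    rw [← map_zpow, ← hconj, map_mul, map_mul, map_inv, (D.act_eq_one q).2 hqQ, one_mul, inv_one, mul_one,
      ← hact_eq hb, h, hact_eq hb']
  have hk2 : (⟨b', hb'⟩ : Cz) ^ k = ⟨b', hb'⟩ := by
    have hb'o : orderOf (⟨b', hb'⟩ : Cz) = 5 := orderOf_eq_prime (Subtype.ext h5') fun e =>
      hne' (by rw [e, map_one])
    conv_rhs => rw [← zpow_one (⟨b', hb'⟩ : Cz)]
    conv at hk1 => rhs; rw [← zpow_one (D.act ⟨b', hb'⟩)]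
    rw [zpow_eq_zpow_iff_modEq, hb'o]
    rwa [zpow_eq_zpow_iff_modEq, hord] at hk1
  have := congrArg Subtype.val (hconj.trans hk2)
  simpa using this

/-- A change of coordinates. -/
def twist (D : Dat z) (h : O8) : Dat z where
  Q := D.Q
  pre := D.pre
  card := D.card
  π q := h.1 (D.π q)
  π_mul a ha b hb := by rw [D.π_mul a ha b hb, map_add]
  π_surj m := by
    obtain ⟨q, hq, e⟩ := D.π_surj ((h⁻¹).1 m)
    exact ⟨q, hq, by rw [e]; exact oGroup_apply_inv h m⟩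
  π_eq_zero q hq := by rw [h.1.map_eq_zero_iff]; exact D.π_eq_zero q hq
  sq_iff q hq := by rw [qf_oGroup]; exact D.sq_iff q hq
  comm_iff a ha b hb := by rw [bf_oGroup]; exact D.comm_iff a ha b hb
  act := (MulAut.conj h).toMonoidHom.comp D.act
  act_π c q hq := by
    show h.1 (D.π _) = h.1 ((D.act c).1 ((h⁻¹).1 (h.1 (D.π q))))
    rw [D.act_π c q hq]
    exact congrArg (fun t => h.1 ((D.act c).1 t)) (h.1.symm_apply_apply _).symm
  act_eq_one c := by rw [← D.act_eq_one c]; exact MulEquiv.map_eq_one_iff (MulAut.conj h)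
  act_mem c := (inferInstance : (commutator (oGroup q8)).Normal).conj_mem _ (D.act_mem c) h
  act_surj k hk := by
    obtain ⟨c, hc⟩ := D.act_surj (h⁻¹ * k * h)
      (by simpa using (inferInstance : (commutator (oGroup q8)).Normal).conj_mem _ hk h⁻¹)
    exact ⟨c, by show h * D.act c * h⁻¹ = k; rw [hc]; group⟩

theorem hact_twist (D : Dat z) (h : O8) {n : G} (hn : n ∈ centralizer ({z} : Set G)) :
    hact (twist D h) n = h * hact D n * h⁻¹ := by
  rw [hact_eq hn, hact_eq hn]; rfl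

theorem iota_pow_fix {i j : Fin 5} (hi : i ≠ 0) (hj : j ≠ 0) {m : M8}
    (h : (iota (β ^ i.val, β ^ j.val)).1 m = m) : m = 0 := by
  obtain ⟨v, w, hv, hw, rfl⟩ := exists_enc m
  rw [iota_enc _ _ hv hw] at h
  obtain ⟨e1, e2⟩ := enc_inj (ev_pa _ hv) (ev_pa _ hw) hv hw h
  rw [fix_β_pow i hi v hv e1, fix_β_pow j hj w hw e2, enc_zero]

theorem β_pow_inj : ∀ i j : Fin 5, β ^ i.val = β ^ j.val → i = j := by decide +kernel

/-- Elements of order five with a fixed point are conjugate in the commutator subgroup. -/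
theorem exists_normal_form {g : O8} (hg : g ∈ commutator (oGroup q8)) (h5 : g ^ 5 = 1) (hne : g ≠ 1) {m : M8}
    (hm : m ≠ 0) (hfix : g.1 m = m) : ∃ h ∈ commutator (oGroup q8), h * g * h⁻¹ = iota (1, β) := by
  classical
  haveI : Fact (Nat.Prime 5) := ⟨by norm_num⟩
  let f : Fin 5 × Fin 5 → ↥(commutator (oGroup q8)) := fun p =>
    ⟨iota (β ^ p.1.val, β ^ p.2.val), (iota_mem_iff _ _).2 (by rw [map_pow, map_pow, β_sign, one_pow, one_pow])⟩
  let S : Subgroup ↥(commutator (oGroup q8)) :=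
    (((zpowers β).prod (zpowers β)).map iota).subgroupOf (commutator (oGroup q8))
  have hordβ : orderOf β = 5 := orderOf_eq_prime β_pow β_ne
  have hle : ((zpowers β).prod (zpowers β)).map iota ≤ commutator (oGroup q8) := by
    rintro _ ⟨⟨σ, τ⟩, ⟨hσ, hτ⟩, rfl⟩
    obtain ⟨a, rfl⟩ := mem_zpowers_iff.1 hσ
    obtain ⟨c, rfl⟩ := mem_zpowers_iff.1 hτ
    exact (iota_mem_iff _ _).2 (by rw [map_zpow, map_zpow, β_sign, one_zpow, one_zpow])
  have hcard : Nat.card S = 25 := by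
    rw [Nat.card_congr (Subgroup.subgroupOfEquivOfLe hle).toEquiv,
      Subgroup.card_map_of_injective iota_injective,
      Nat.card_congr (Subgroup.prodEquiv _ _).toEquiv, Nat.card_prod, Nat.card_zpowers, hordβ]
  have hfac : (Nat.card ↥(commutator (oGroup q8))).factorization 5 = 2 := by
    rw [card_omega8, show 174182400 = 5 ^ 2 * 6967296 by norm_num,
      Nat.factorization_mul (by norm_num) (by norm_num), Finsupp.add_apply,
      Nat.prime_five.factorization_pow, Finsupp.single_eq_same,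
      Nat.factorization_eq_zero_of_not_dvd (by norm_num)]
  let P : Sylow 5 ↥(commutator (oGroup q8)) := Sylow.ofCard S (by rw [hfac, hcard]; norm_num)
  have hpg : IsPGroup 5 (zpowers (⟨g, hg⟩ : ↥(commutator (oGroup q8)))) :=
    IsPGroup.of_card (n := 1) (by
      rw [Nat.card_zpowers, pow_one]
      exact orderOf_eq_prime (Subtype.ext h5) fun e => hne (congrArg Subtype.val e))
  obtain ⟨P', hP'⟩ := hpg.exists_le_sylow
  obtain ⟨⟨h, hh⟩, hhP⟩ := MulAction.exists_smul_eq ↥(commutator (oGroup q8)) P' P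
  have hmem : h * g * h⁻¹ ∈ ((zpowers β).prod (zpowers β)).map iota := by
    have : (⟨h, hh⟩ : ↥(commutator (oGroup q8))) * ⟨g, hg⟩ * (⟨h, hh⟩)⁻¹ ∈ (P : Subgroup _) := by
      rw [← hhP]; exact mem_map.2 ⟨⟨g, hg⟩, hP' (mem_zpowers _), rfl⟩
    exact this
  obtain ⟨⟨σ, τ⟩, ⟨hσ, hτ⟩, e⟩ := hmem
  have hpow : ∀ x ∈ zpowers β, ∃ i : Fin 5, x = β ^ i.val := fun x hx => by
    refine comm_β x ?_
    obtain ⟨a, rfl⟩ := mem_zpowers_iff.1 hx
    exact (Commute.zpow_self β a).eq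
  obtain ⟨i, rfl⟩ := hpow σ hσ
  obtain ⟨j, rfl⟩ := hpow τ hτ
  have hne' : ¬ (i = 0 ∧ j = 0) := by
    rintro ⟨rfl, rfl⟩
    simp only [Fin.val_zero, pow_zero, ← Prod.one_eq_mk, map_one] at e
    exact hne (conj_eq_one_iff.1 e.symm)
  have hfix' : (iota (β ^ i.val, β ^ j.val)).1 (h.1 m) = h.1 m := by
    rw [e]
    show h.1 (g.1 ((h⁻¹).1 (h.1 m))) = h.1 m
    rw [show (h⁻¹).1 (h.1 m) = m from h.1.symm_apply_apply m, hfix]
  have hz' : i = 0 ∨ j = 0 := by
    by_contra hc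
    push Not at hc
    exact hm (h.1.map_eq_zero_iff.1 (iota_pow_fix hc.1 hc.2 hfix'))
  -- move the non-trivial part to the second block
  obtain ⟨k, hk, i', hi', ek⟩ : ∃ k ∈ commutator (oGroup q8), ∃ i' : Fin 5, i' ≠ 0 ∧
      k * g * k⁻¹ = iota (1, β ^ i'.val) := by
    rcases hz' with rfl | rfl
    · exact ⟨h, hh, j, fun e' => hne' ⟨rfl, e'⟩, by rw [← e, Fin.val_zero, pow_zero]⟩
    · have hi0 : i ≠ 0 := fun e' => hne' ⟨e', rfl⟩
      by_cases hf : flip8 ∈ commutator (oGroup q8)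
      · refine ⟨flip8 * h, mul_mem hf hh, i, hi0, ?_⟩
        rw [show flip8 * h * g * (flip8 * h)⁻¹ = flip8 * (h * g * h⁻¹) * flip8⁻¹ by group, ← e, flip8_conj,
          Fin.val_zero, pow_zero]
      · refine ⟨iota (Equiv.swap 0 1, 1) * flip8 * h, mul_mem ?_ hh, i, hi0, ?_⟩
        · exact (mul_mem_iff8 _ _).2 (iff_of_false (iota_swap_not_mem 0 1 (by decide)) hf)
        · rw [show iota (Equiv.swap 0 1, 1) * flip8 * h * g * (iota (Equiv.swap 0 1, 1) * flip8 * h)⁻¹ =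
            iota (Equiv.swap 0 1, 1) * (flip8 * (h * g * h⁻¹) * flip8⁻¹) * (iota (Equiv.swap 0 1, 1))⁻¹ by group,
            ← e, flip8_conj, Fin.val_zero, pow_zero, ← map_inv, ← map_mul, ← map_mul]
          simp
  obtain ⟨τ, hτ'⟩ := conj_β_pow i' hi'
  refine ⟨iota (τ, τ) * k, mul_mem ((iota_mem_iff _ _).2 rfl) hk, ?_⟩
  rw [show iota (τ, τ) * k * g * (iota (τ, τ) * k)⁻¹ = iota (τ, τ) * (k * g * k⁻¹) * (iota (τ, τ))⁻¹ by group,
    ek, ← map_inv, ← map_mul, ← map_mul, Prod.inv_mk, Prod.mk_mul_mk, Prod.mk_mul_mk, mul_one, mul_inv_cancel, hτ']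

/-- A subgroup of order five with a non-central fixed point becomes normal in suitable coordinates. -/
theorem exists_five (D : Dat z) {b : G} (hb : b ∈ centralizer ({z} : Set G)) (h5 : b ^ 5 = 1) (hne : b ≠ 1)
    (hfix : ∃ q ∈ D.Q, b * q = q * b ∧ D.π q ≠ 0) : ∃ h : O8, Five (twist D h) b := by
  obtain ⟨q, hq, hc, hq0⟩ := hfix
  have hgne : hact D b ≠ 1 := fun e => hne (by
    have hbQ := mem_Q_of_hact hb e
    have h2 : b ^ 4 = 1 := by
      rcases D.pre.gen.square b hbQ with h | h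
      · rw [show (4 : ℕ) = 2 * 2 from rfl, pow_mul, pow_two b, h, one_pow]
      · rw [show (4 : ℕ) = 2 * 2 from rfl, pow_mul, pow_two b, h, pow_two, D.pre.gen.sq]
    calc b = b ^ 5 * (b ^ 4)⁻¹ := by group
      _ = 1 := by rw [h5, h2]; group)
  have hpow : ∀ n : ℕ, (hact D b) ^ n = hact D (b ^ n) := by
    intro n; rw [hact_eq hb, ← map_pow, hact_eq (pow_mem hb n)]; rfl
  obtain ⟨h, -, e⟩ := exists_normal_form (hact_mem b) (by rw [hpow, h5, hact_Q (one_mem _)]) hgne hq0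
    (by rw [← (π_conj hb hq).2, hc, mul_inv_cancel_right])
  exact ⟨h, hb, h5, by rw [hact_twist D h hb, e]⟩

end CfsgLib.Co1Five
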