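import Cfsg.Agent.Co1Five.Normal
import Cfsg.Agent.Co1Invol.Main

/-!
The centraliser of an element of order five in the involution centraliser: fusion of the central involution
and an involution outside the extraspecial group.
-/

set_option autoImplicit false
set_option maxRecDepth 100000
set_option synthInstance.maxSize 4096
set_option linter.style.haveILetI false
set_option linter.unusedSectionVars false

namespace CfsgLib.Co1Five

open CfsgLib CfsgLib.Quad CfsgLib.Co1Invol Subgroup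
open CfsgLib.HJT (V5 Ev wt dot sing IsInv5)

local notation "pa" => CfsgLib.HJT.act

variable {G : Type*} [Group G] [Finite G] {z : G}

theorem dec1_zero : dec1 0 = 0 := by decide +kernel

theorem dec2_zero : dec2 0 = 0 := by decide +kernel

/-- The part of the extraspecial group over the first block. -/
def Q1 (D : Dat z) : Subgroup G where
  carrier := {q | q ∈ D.Q ∧ dec2 (D.π q) = 0}
  one_mem' := ⟨one_mem _, by rw [π_one, dec2_zero]⟩
  mul_mem' := fun {a b} ha hb => ⟨mul_mem ha.1 hb.1, by rw [D.π_mul a ha.1 b hb.1, dec2_add, ha.2, hb.2, add_zero]⟩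
  inv_mem' := fun {a} ha => ⟨inv_mem ha.1, by rw [π_inv D ha.1]; exact ha.2⟩

/-- The part of the extraspecial group over the second block. -/
def Q2 (D : Dat z) : Subgroup G where
  carrier := {q | q ∈ D.Q ∧ dec1 (D.π q) = 0}
  one_mem' := ⟨one_mem _, by rw [π_one, dec1_zero]⟩
  mul_mem' := fun {a b} ha hb => ⟨mul_mem ha.1 hb.1, by rw [D.π_mul a ha.1 b hb.1, dec1_add, ha.2, hb.2, add_zero]⟩
  inv_mem' := fun {a} ha => ⟨inv_mem ha.1, by rw [π_inv D ha.1]; exact ha.2⟩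

theorem Q1_π {D : Dat z} {q : G} (h : q ∈ Q1 D) : D.π q = enc (dec1 (D.π q)) 0 := by
  conv_lhs => rw [← enc_dec (D.π q), h.2]

theorem Q2_π {D : Dat z} {q : G} (h : q ∈ Q2 D) : D.π q = enc 0 (dec2 (D.π q)) := by
  conv_lhs => rw [← enc_dec (D.π q), h.2]

theorem z_Q1 (D : Dat z) : z ∈ Q1 D := ⟨z_mem D, by rw [π_z, dec2_zero]⟩

theorem mem_Q1_of_π {D : Dat z} {q : G} (hq : q ∈ D.Q) {v : V5} (hv : Ev v) (h : D.π q = enc v 0) : q ∈ Q1 D :=
  ⟨hq, by rw [h, (dec_enc v 0 hv ev_zero).2]⟩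

theorem exists_Q1 (D : Dat z) {v : V5} (hv : Ev v) : ∃ q ∈ Q1 D, D.π q = enc v 0 := by
  obtain ⟨q, hq, e⟩ := D.π_surj (enc v 0)
  exact ⟨q, mem_Q1_of_π hq hv e, e⟩

theorem Q1_Q2_comm {D : Dat z} {q r : G} (hq : q ∈ Q1 D) (hr : r ∈ Q2 D) : q * r = r * q := by
  refine (D.comm_iff q hq.1 r hr.1).2 ?_
  rw [Q1_π hq, Q2_π hr, bf_enc (ev_dec _).1 ev_zero ev_zero (ev_dec _).2]
  simp [dot]

theorem sq_cases (D : Dat z) {q : G} (hq : q ∈ D.Q) : q * q = 1 ∨ q * q = z := D.pre.gen.square q hq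

theorem sq_of_wt {D : Dat z} {q : G} (hq : q ∈ Q1 D) (h : wt (dec1 (D.π q)) = 1) : q * q = z := by
  refine (sq_cases D hq.1).resolve_left fun e => ?_
  rw [D.sq_iff q hq.1, Q1_π hq, qf_enc _ _ (ev_dec _).1 ev_zero, CfsgLib.HJT.wt_zero, add_zero, h] at e
  exact one_ne_zero e

theorem hact_one (D : Dat z) : hact D (1 : G) = 1 := hact_Q (one_mem _)

theorem hact_conj (D : Dat z) {c x : G} (hc : c ∈ centralizer ({z} : Set G)) (hx : x ∈ centralizer ({z} : Set G)) :
    hact D (c * x * c⁻¹) = hact D c * hact D x * (hact D c)⁻¹ := by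
  rw [hact_mul (mul_mem hc hx) (inv_mem hc), hact_mul hc hx, hact_inv hc]

theorem hact_sq' (D : Dat z) {x : G} (hx : x ∈ centralizer ({z} : Set G)) (h : x * x ∈ D.Q) :
    hact D x * hact D x = 1 := by
  rw [← hact_mul hx hx, hact_Q h]

theorem exists_lift (D : Dat z) {σ τ : Equiv.Perm (Fin 5)} (h : Equiv.Perm.sign σ = Equiv.Perm.sign τ) :
    ∃ c ∈ centralizer ({z} : Set G), hact D c = iota (σ, τ) := by
  obtain ⟨⟨c, hc⟩, e⟩ := D.act_surj _ ((iota_mem_iff σ τ).2 h)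
  exact ⟨c, hc, by rw [hact_eq hc]; exact e⟩

namespace Five

variable {D : Dat z} {b : G} (F : Five D b)
include F

theorem mem_Q1 {q : G} (hq : q ∈ D.Q) : b * q = q * b ↔ q ∈ Q1 D := by
  constructor
  · intro h
    obtain ⟨v, w, hv, hw, e⟩ := exists_enc (D.π q)
    have h' : (hact D b).1 (D.π q) = D.π q := by rw [← (π_conj F.C hq).2, h, mul_inv_cancel_right]
    rw [F.eq, e, iota_enc _ _ hv hw] at h'
    have hw0 := fix_β w hw (enc_inj (ev_pa _ hv) (ev_pa _ hw) hv hw h').2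
    subst hw0
    exact mem_Q1_of_π hq hv e
  · intro h
    refine comm_of_fix D F.C F.pow hq ?_
    rw [F.eq, Q1_π h, iota_enc _ _ (ev_dec _).1 ev_zero, pa_zero, CfsgLib.HJT.act_one]

theorem cent_form {c : G} (hc : c ∈ centralizer ({z} : Set G)) (hcb : c * b = b * c) :
    ∃ (σ : Equiv.Perm (Fin 5)) (i : Fin 5), Equiv.Perm.sign σ = 1 ∧ hact D c = iota (σ, β ^ i.val) := by
  have hcomm : hact D c * iota (1, β) = iota (1, β) * hact D c := by
    rw [← F.eq, ← hact_mul hc F.C, hcb, hact_mul F.C hc]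
  have hst : ∀ v, Ev v → dec2 ((hact D c).1 (enc v 0)) = 0 := by
    intro v hv
    obtain ⟨a, a', ha, ha', e⟩ := exists_enc ((hact D c).1 (enc v 0))
    have h1 : (hact D c * iota (1, β)).1 (enc v 0) = (iota (1, β) * hact D c).1 (enc v 0) := by rw [hcomm]
    change (hact D c).1 ((iota (1, β)).1 (enc v 0)) = (iota (1, β)).1 ((hact D c).1 (enc v 0)) at h1
    rw [iota_enc _ _ hv ev_zero, pa_zero, CfsgLib.HJT.act_one, e, iota_enc _ _ ha ha'] at h1
    rw [e, (dec_enc a a' ha ha').2]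
    exact fix_β a' ha' (enc_inj ha ha' (ev_pa _ ha) (ev_pa _ ha') h1).2.symm
  obtain ⟨σ, τ, hg⟩ := mem_iota_range hst
  rw [hg, ← map_mul, ← map_mul, Prod.mk_mul_mk, Prod.mk_mul_mk] at hcomm
  obtain ⟨i, rfl⟩ := comm_β τ (congrArg Prod.snd (iota_injective hcomm))
  refine ⟨σ, i, ?_, hg⟩
  have hm := hact_mem (D := D) c
  rwa [hg, iota_mem_iff, map_pow, β_sign, one_pow] at hm

theorem lift {σ : Equiv.Perm (Fin 5)} (hσ : Equiv.Perm.sign σ = 1) :
    ∃ c ∈ centralizer ({z} : Set G), c * b = b * c ∧ hact D c = iota (σ, 1) := by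
  obtain ⟨c, hc, e⟩ := exists_lift D (σ := σ) (τ := 1) (by rw [hσ, map_one])
  have he : hact D (c * b * c⁻¹) = hact D b := by
    rw [hact_conj D hc F.C, e, F.eq, ← map_inv, ← map_mul, ← map_mul]
    simp
  obtain ⟨q, hq, hqb⟩ := exists_conj_of_hact D (mul_mem (mul_mem hc F.C) (inv_mem hc)) F.C
    (by rw [conj_pow, F.pow]; group) F.pow he (fun h => F.ne_one (by
      have h' := h.symm.trans F.eq
      rw [← map_one iota] at h'
      exact absurd (congrArg Prod.snd (iota_injective h')).symm β_ne))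
  refine ⟨q * c, mul_mem (mem_C D hq) hc, ?_, by rw [hact_mul (mem_C D hq) hc, hact_Q hq, one_mul, e]⟩
  calc q * c * b = (q * (c * b * c⁻¹) * q⁻¹) * (q * c) := by group
    _ = b * (q * c) := by rw [hqb]

/-- The central involution is conjugate in the centraliser to every singular element over the first block. -/
theorem move {g₀ : G} (h₀ : g₀ * z * g₀⁻¹ ∈ D.Q) (hne : g₀ * z * g₀⁻¹ ≠ z) {s : G} (hs : s ∈ Q1 D)
    (hs2 : qf (D.π s) = 0) (hs0 : D.π s ≠ 0) :
    ∃ k, k * b = b * k ∧ k * z * k⁻¹ = s ∧ k⁻¹ * z * k ∈ Q1 D ∧ k⁻¹ * z * k ≠ z := by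
  have hz1 := D.pre.gen.ne_one
  set x := g₀ * z * g₀⁻¹ with hx
  have hx2 : qf (D.π x) = 0 := (D.sq_iff x h₀).1 (by
    rw [hx, show g₀ * z * g₀⁻¹ * (g₀ * z * g₀⁻¹) = g₀ * (z * z) * g₀⁻¹ by group, D.pre.gen.sq]; group)
  obtain ⟨c, hc, hcs⟩ := exists_conj_C D h₀ hs.1 hx2 hs2
    (fun e => ((D.π_eq_zero x h₀).1 e).elim (fun e1 => hz1 (conj_eq_one_iff.1 e1)) hne) hs0
  set g := c * g₀ with hg
  have hgs : g * z * g⁻¹ = s := by
    rw [← hcs, hg, hx]
    calc c * g₀ * z * (c * g₀)⁻¹ = c * (g₀ * z * g₀⁻¹) * c⁻¹ := by group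
      _ = _ := rfl
  have hsz : s ≠ z := fun e => hs0 (by rw [e, π_z])
  set b' := g⁻¹ * b * g with hb'
  have hbs : b * s = s * b := (F.mem_Q1 hs.1).2 hs
  have hb'C : b' ∈ centralizer ({z} : Set G) := mem_Cz.2 (by
    calc b' * z = g⁻¹ * (b * (g * z * g⁻¹)) * g := by rw [hb']; group
      _ = g⁻¹ * ((g * z * g⁻¹) * b) * g := by rw [hgs, hbs]
      _ = z * b' := by rw [hb']; group)
  have hb'5 : b' ^ 5 = 1 := by
    rw [hb', show g⁻¹ * b * g = g⁻¹ * b * g⁻¹⁻¹ by rw [inv_inv], conj_pow, F.pow]; group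
  have hb'1 : b' ≠ 1 := fun e => F.ne_one (by
    calc b = g * b' * g⁻¹ := by rw [hb']; group
      _ = 1 := by rw [e]; group)
  -- the other conjugate of the central involution
  have hzg : g⁻¹ * z * g ∈ D.Q :=
    (mem_conjQ D).1 (mem_conjQ_self D (k := g) (by rw [hgs]; exact hs.1))
  have hzgne : D.π (g⁻¹ * z * g) ≠ 0 := fun e => by
    rcases (D.π_eq_zero _ hzg).1 e with e' | e'
    · exact hz1 (by calc z = g * (g⁻¹ * z * g) * g⁻¹ := by group
                      _ = 1 := by rw [e']; group)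
    · exact hsz (by rw [← hgs]; nth_rewrite 1 [← e']; group)
  have hb'fix : (hact D b').1 (D.π (g⁻¹ * z * g)) = D.π (g⁻¹ * z * g) := by
    rw [← (π_conj hb'C hzg).2]
    congr 1
    calc b' * (g⁻¹ * z * g) * b'⁻¹ = g⁻¹ * (b * z * b⁻¹) * g := by rw [hb']; group
      _ = _ := by rw [z_conj F.C]
  have hgne : hact D b' ≠ 1 := fun e => hb'1 (by
    have hbQ := mem_Q_of_hact hb'C e
    have h4 : b' ^ 4 = 1 := by
      rw [show (4 : ℕ) = 2 * 2 from rfl, pow_mul, pow_two b']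
      rcases sq_cases D hbQ with h | h <;> rw [h]
      · rw [one_pow]
      · rw [pow_two, D.pre.gen.sq]
    calc b' = b' ^ 5 * (b' ^ 4)⁻¹ := by group
      _ = 1 := by rw [hb'5, h4]; group)
  have hg5 : hact D b' ^ 5 = 1 := by
    rw [hact_eq hb'C, ← map_pow, show (⟨b', hb'C⟩ : centralizer ({z} : Set G)) ^ 5 = 1 from Subtype.ext hb'5,
      map_one]
  obtain ⟨h, hh, he⟩ := exists_normal_form (hact_mem b') hg5 hgne hzgne hb'fix
  obtain ⟨⟨d, hd⟩, hdh⟩ := D.act_surj h hh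
  have hdb : hact D (d * b' * d⁻¹) = hact D b := by rw [hact_conj D hd hb'C, hact_eq hd, hdh, he, F.eq]
  obtain ⟨q, hq, hqb⟩ := exists_conj_of_hact D (mul_mem (mul_mem hd hb'C) (inv_mem hd)) F.C
    (by rw [conj_pow, hb'5]; group) F.pow hdb (by
      rw [F.eq, ← map_one iota]
      exact fun e => β_ne (congrArg Prod.snd (iota_injective e)))
  set c' := q * d with hc'
  have hc'C : c' ∈ centralizer ({z} : Set G) := mul_mem (mem_C D hq) hd
  have hcb : c' * b' * c'⁻¹ = b := by rw [← hqb, hc']; group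
  set k := g * c'⁻¹ with hk
  have hkz : k * z * k⁻¹ = s := by
    rw [hk, ← hgs]
    calc g * c'⁻¹ * z * (g * c'⁻¹)⁻¹ = g * (c'⁻¹ * z * c'⁻¹⁻¹) * g⁻¹ := by group
      _ = g * z * g⁻¹ := by rw [z_conj (inv_mem hc'C)]
  have hkb : k * b = b * k := by
    calc k * b = g * (c'⁻¹ * (c' * b' * c'⁻¹)) := by rw [hk, hcb]; group
      _ = b * k := by rw [hk, hb']; group
  have hmem : k⁻¹ * z * k ∈ D.Q := (mem_conjQ D).1 (mem_conjQ_self D (k := k) (by rw [hkz]; exact hs.1))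
  refine ⟨k, hkb, hkz, (F.mem_Q1 hmem).1 ?_, fun e => hsz ?_⟩
  · have h1 : b * k⁻¹ = k⁻¹ * b := by
      calc b * k⁻¹ = k⁻¹ * (k * b) * k⁻¹ := by group
        _ = k⁻¹ * b := by rw [hkb]; group
    calc b * (k⁻¹ * z * k) = b * k⁻¹ * z * k := by group
      _ = k⁻¹ * (b * z) * k := by rw [h1]; group
      _ = k⁻¹ * z * (b * k) := by rw [mem_Cz.1 F.C]; group
      _ = k⁻¹ * z * k * b := by rw [← hkb]; group
  · rw [← hkz]; nth_rewrite 1 [← e]; group

/-- An involution outside the extraspecial group. -/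
theorem exists_invol {g₀ : G} (h₀ : g₀ * z * g₀⁻¹ ∈ D.Q) (hne : g₀ * z * g₀⁻¹ ≠ z) :
    ∃ x ∈ centralizer ({z} : Set G), x * b = b * x ∧ x * x = 1 ∧
      ∃ σ, IsInv5 σ ∧ hact D x = iota (σ, 1) := by
  obtain ⟨s, hs, hsπ⟩ := exists_Q1 D (ev_sing' 0)
  have hs2 : qf (D.π s) = 0 := by
    rw [hsπ, qf_enc _ _ (ev_sing' 0) ev_zero, CfsgLib.HJT.wt_sing, CfsgLib.HJT.wt_zero, add_zero]
  have hs0 : D.π s ≠ 0 := by
    rw [hsπ, ← enc_zero]
    exact fun e => CfsgLib.HJT.sing_ne_zero 0 (enc_inj (ev_sing' 0) ev_zero ev_zero ev_zero e).1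
  obtain ⟨k, hkb, hkz, hs', hs'z⟩ := F.move h₀ hne hs hs2 hs0
  have hss : s * s = 1 := (D.sq_iff s hs.1).2 hs2
  set s' := k⁻¹ * z * k with hs'd
  have hs'1 : s' ≠ 1 := fun e => D.pre.gen.ne_one (by
    calc z = k * s' * k⁻¹ := by rw [hs'd]; group
      _ = 1 := by rw [e]; group)
  have hs's : s' * s' = 1 := by
    rw [hs'd, show k⁻¹ * z * k * (k⁻¹ * z * k) = k⁻¹ * (z * z) * k by group, D.pre.gen.sq]; group
  obtain ⟨i', hi'⟩ : ∃ i', D.π s' = enc (sing i') 0 := by
    have h1 : wt (dec1 (D.π s')) = 0 := by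
      have h := (D.sq_iff s' hs'.1).1 hs's
      rwa [Q1_π hs', qf_enc _ _ (ev_dec _).1 ev_zero, CfsgLib.HJT.wt_zero, add_zero] at h
    rcases CfsgLib.HJT.wt_zero_cases _ (ev_dec _).1 h1 with e | ⟨i, e⟩
    · exfalso
      rcases (D.π_eq_zero s' hs'.1).1 (by rw [Q1_π hs', e, enc_zero]) with e' | e'
      · exact hs'1 e'
      · exact hs'z e'
    · exact ⟨i, by rw [Q1_π hs', e]⟩
  -- a non-singular element orthogonal to the first involution
  have hv1 : Ev ![0, 0, 1, 1, 0] ∧ wt ![0, 0, 1, 1, 0] = 1 ∧ dot (sing 0) ![0, 0, 1, 1, 0] = 0 := by decide +kernel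
  obtain ⟨w, hw, hwπ⟩ := exists_Q1 D hv1.1
  have hww : w * w = z := sq_of_wt hw (by rw [hwπ, (dec_enc _ _ hv1.1 ev_zero).1]; exact hv1.2.1)
  have hws : w * s = s * w := (D.comm_iff w hw.1 s hs.1).2 (by
    rw [hwπ, hsπ, bf_enc hv1.1 ev_zero (ev_sing' 0) ev_zero, dot_comm', hv1.2.2]; simp [dot])
  have hwb : w * b = b * w := ((F.mem_Q1 hw.1).2 hw).symm
  have hkinvb : k⁻¹ * b = b * k⁻¹ := by
    calc k⁻¹ * b = k⁻¹ * (b * k) * k⁻¹ := by group
      _ = b * k⁻¹ := by rw [← hkb]; group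
  -- some conjugated element moves it suitably
  obtain ⟨y, hy, hys, hY1, hY2⟩ : ∃ y ∈ Q1 D, y * s' = s' * y ∧
      w * (k * y * k⁻¹) * w⁻¹ ≠ k * y * k⁻¹ ∧ w * (k * y * k⁻¹) * w⁻¹ ≠ k * y * k⁻¹ * s := by
    by_contra hall
    push Not at hall
    set u := k⁻¹ * w * k with hu
    have huC : u ∈ centralizer ({z} : Set G) := mem_Cz.2 (by
      calc u * z = k⁻¹ * (w * (k * z * k⁻¹)) * k := by rw [hu]; group
        _ = k⁻¹ * ((k * z * k⁻¹) * w) * k := by rw [hkz, hws]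
        _ = z * u := by rw [hu]; group)
    have hub : u * b = b * u := by
      calc u * b = k⁻¹ * w * (k * b) := by rw [hu]; group
        _ = k⁻¹ * (w * b) * k := by rw [hkb]; group
        _ = (k⁻¹ * b) * w * k := by rw [hwb]; group
        _ = b * u := by rw [hkinvb, hu]; group
    have huu : u * u = s' := by
      rw [hu, show k⁻¹ * w * k * (k⁻¹ * w * k) = k⁻¹ * (w * w) * k by group, hww]
    obtain ⟨σ, j, hσ, hact'⟩ := F.cent_form huC hub
    have hsq := hact_sq' D huC (by rw [huu]; exact hs'.1)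
    rw [hact', ← map_mul, Prod.mk_mul_mk, ← map_one iota] at hsq
    have hj : (β ^ j.val) * (β ^ j.val) = 1 := congrArg Prod.snd (iota_injective hsq)
    have hj0 : β ^ j.val = 1 := (show ∀ j : Fin 5, β ^ j.val * β ^ j.val = 1 → β ^ j.val = 1 by decide +kernel) j hj
    have hσ1 : σ = 1 := by
      refine hyper_fix σ i' (fun v hv hv0 => ?_) hσ
      obtain ⟨y, hy, hyπ⟩ := exists_Q1 D hv
      have hys : y * s' = s' * y := (D.comm_iff y hy.1 s' hs'.1).2 (by
        rw [hyπ, hi', bf_enc hv ev_zero (ev_sing' i') ev_zero, dot_comm', hv0]; simp [dot])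
      have hcase : u * y * u⁻¹ = y ∨ u * y * u⁻¹ = y * z := by
        by_cases h1 : w * (k * y * k⁻¹) * w⁻¹ = k * y * k⁻¹
        · left
          calc u * y * u⁻¹ = k⁻¹ * (w * (k * y * k⁻¹) * w⁻¹) * k := by rw [hu]; group
            _ = y := by rw [h1]; group
        · right
          calc u * y * u⁻¹ = k⁻¹ * (w * (k * y * k⁻¹) * w⁻¹) * k := by rw [hu]; group
            _ = k⁻¹ * (k * y * k⁻¹ * (k * z * k⁻¹)) * k := by rw [hall y hy hys h1, hkz]
            _ = y * z := by group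
      have hπ : D.π (u * y * u⁻¹) = D.π y := by
        rcases hcase with e | e <;> rw [e]
        rw [D.π_mul y hy.1 z (z_mem D), π_z, add_zero]
      rw [(π_conj huC hy.1).2, hact', hj0, hyπ, iota_enc _ _ hv ev_zero, CfsgLib.HJT.act_one] at hπ
      exact (enc_inj (ev_pa _ hv) ev_zero hv ev_zero hπ).1
    have huQ : u ∈ D.Q := mem_Q_of_hact huC (by rw [hact', hσ1, hj0]; exact map_one iota)
    rcases sq_cases D huQ with e | e <;> rw [huu] at e
    · exact hs'1 e
    · exact hs'z e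
  set Y := k * y * k⁻¹ with hYd
  have hYb : Y * b = b * Y := by
    calc Y * b = k * y * (k⁻¹ * b) := by rw [hYd]; group
      _ = k * (y * b) * k⁻¹ := by rw [hkinvb]; group
      _ = (k * b) * y * k⁻¹ := by rw [← (F.mem_Q1 hy.1).2 hy]; group
      _ = b * Y := by rw [hkb, hYd]; group
  have hYC : Y ∈ centralizer ({z} : Set G) := mem_Cz.2 (by
    calc Y * z = k * (y * s') * k⁻¹ := by rw [hYd, hs'd]; group
      _ = k * (s' * y) * k⁻¹ := by rw [hys]
      _ = z * Y := by rw [hYd, hs'd]; group)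
  have hYs : Y * s = s * Y := by
    calc Y * s = k * (y * z) * k⁻¹ := by rw [hYd, ← hkz]; group
      _ = k * (z * y) * k⁻¹ := by rw [z_comm (mem_C D hy.1)]
      _ = s * Y := by rw [hYd, ← hkz]; group
  have hyy : y * y = z := by
    refine (sq_cases D hy.1).resolve_left fun e => hY1 ?_
    -- otherwise it lies in the span of the two central involutions
    have h0 : dot (sing i') (dec1 (D.π y)) = 0 := by
      have h := (D.comm_iff y hy.1 s' hs'.1).1 hys
      rw [Q1_π hy, hi', bf_enc (ev_dec _).1 ev_zero (ev_sing' i') ev_zero, dot_comm'] at h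
      simpa [dot] using h
    have h1 : wt (dec1 (D.π y)) = 0 := by
      have h := (D.sq_iff y hy.1).1 e
      rwa [Q1_π hy, qf_enc _ _ (ev_dec _).1 ev_zero, CfsgLib.HJT.wt_zero, add_zero] at h
    have hcases : y = 1 ∨ y = z ∨ y = s' ∨ y = s' * z := by
      rcases perp_wt i' _ (ev_dec _).1 h0 h1 with e' | e'
      · rcases (D.π_eq_zero y hy.1).1 (by rw [Q1_π hy, e', enc_zero]) with h | h
        · exact Or.inl h
        · exact Or.inr (Or.inl h)
      · exact Or.inr (Or.inr (eq_of_π D hs'.1 hy.1 (by rw [Q1_π hy, e', hi'])))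
    have hwz : w * z * w⁻¹ = z := z_conj (mem_C D hw.1)
    have hws' : w * s * w⁻¹ = s := by rw [hws]; group
    rcases hcases with rfl | rfl | rfl | rfl
    · rw [hYd]; group
    · rw [hYd, hkz, hws']
    · rw [hYd, show k * s' * k⁻¹ = z by rw [hs'd]; group, hwz]
    · rw [hYd, show k * (s' * z) * k⁻¹ = z * (k * z * k⁻¹) by rw [hs'd]; group, hkz]
      calc w * (z * s) * w⁻¹ = (w * z * w⁻¹) * (w * s * w⁻¹) := by group
        _ = z * s := by rw [hwz, hws']
  have hYY : Y * Y = s := by rw [hYd, show k * y * k⁻¹ * (k * y * k⁻¹) = k * (y * y) * k⁻¹ by group, hyy, hkz]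
  obtain ⟨σ, j, hσ, hact'⟩ := F.cent_form hYC hYb
  have hsq := hact_sq' D hYC (by rw [hYY]; exact hs.1)
  rw [hact', ← map_mul, Prod.mk_mul_mk, ← map_one iota] at hsq
  have hj0 : β ^ j.val = 1 := (show ∀ j : Fin 5, β ^ j.val * β ^ j.val = 1 → β ^ j.val = 1 by decide +kernel) j
    (congrArg Prod.snd (iota_injective hsq))
  rw [hj0] at hact'
  have hsz : s ≠ z := fun e => hs0 (by rw [e, π_z])
  have hs1 : s ≠ 1 := fun e => hs0 (by rw [e, π_one])
  have hσ1 : σ ≠ 1 := fun e => by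
    have hYQ : Y ∈ D.Q := mem_Q_of_hact hYC (by rw [hact', e]; exact map_one iota)
    rcases sq_cases D hYQ with h | h <;> rw [hYY] at h
    · exact hs1 h
    · exact hsz h
  have hinv : IsInv5 σ := ⟨congrArg Prod.fst (iota_injective hsq), hσ1, hσ⟩
  have hσ0 : σ 0 = 0 := by
    have h := (π_conj hYC hs.1).2
    rw [show Y * s * Y⁻¹ = s by rw [hYs]; group, hact', hsπ, iota_enc _ _ (ev_sing' 0) ev_zero,
      CfsgLib.HJT.act_one, CfsgLib.HJT.act_sing] at h
    exact (CfsgLib.HJT.sing_inj _ _ (enc_inj (ev_sing' 0) ev_zero (ev_sing' _) ev_zero h).1).symm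
  -- the commutator
  set v := (![0, 0, 1, 1, 0] : V5) with hv
  have hwc := norm_Q D hYC hw.1
  have hπc : D.π (Y * w * Y⁻¹) = enc (pa σ v) 0 := by
    rw [(π_conj hYC hw.1).2, hact', hwπ, iota_enc _ _ hv1.1 ev_zero, CfsgLib.HJT.act_one]
  have hwY : Y * w * Y⁻¹ ≠ w := fun e => hY1 (by
    calc w * Y * w⁻¹ = w * Y * w⁻¹ * Y⁻¹ * Y := by group
      _ = w * (Y * w * Y⁻¹)⁻¹ * Y := by group
      _ = Y := by rw [e]; group)
  have hws2 : Y * w * Y⁻¹ ≠ w * s := fun e => hY2 (by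
    calc w * Y * w⁻¹ = w * (Y * w * Y⁻¹)⁻¹ * Y := by group
      _ = w * s⁻¹ * w⁻¹ * Y := by rw [e]; group
      _ = s * Y := by
        rw [inv_eq_of_mul_eq_one_right hss, hws]; group
      _ = Y * s := hYs.symm)
  have hsum : pa σ v + v ≠ 0 := by
    intro h0
    have hfix : pa σ v = v := by
      have h2 : ∀ a c : V5, a + c = 0 → a = c := by decide +kernel
      exact h2 _ _ h0
    obtain ⟨r, hr, hr1, hcases⟩ := perp_fixed σ hinv 0 hσ0 v hv1.1 hv1.2.2 hfix
    obtain ⟨p, hp, hpπ⟩ := exists_Q1 D hr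
    set p' := Y * p * Y⁻¹ with hp'
    have hp'Q : p' ∈ D.Q := norm_Q D hYC hp.1
    have hpp : p' * p' = p * p := by
      rw [hp', show Y * p * Y⁻¹ * (Y * p * Y⁻¹) = Y * (p * p) * Y⁻¹ by group]
      rcases sq_cases D hp.1 with e | e <;> rw [e]
      · group
      · exact z_conj hYC
    have hp4 : p * p * (p * p) = 1 := by
      rcases sq_cases D hp.1 with e | e <;> rw [e]
      · exact one_mul 1
      · exact D.pre.gen.sq
    set q0 := p' * p with hq0
    have hq0Q : q0 ∈ D.Q := mul_mem hp'Q hp.1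
    have hπp' : D.π p' = enc (pa σ r) 0 := by
      rw [hp', (π_conj hYC hp.1).2, hact', hpπ, iota_enc _ _ hr ev_zero, CfsgLib.HJT.act_one]
    have hπq0 : D.π q0 = enc (pa σ r + r) 0 := by
      rw [hq0, D.π_mul p' hp'Q p hp.1, hπp', hpπ, ← enc_add, add_zero]
    have hevq : Ev (pa σ r + r) := ev_add _ _ (ev_pa _ hr) hr
    -- the conjugate of `p` by the square
    have hps : s * p * s⁻¹ = p * z := by
      refine (eq_of_π D hp.1 (norm_Q D (mem_C D hs.1) hp.1) ?_).resolve_left fun e => ?_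
      · rw [(π_conj (mem_C D hs.1) hp.1).2, hact_Q hs.1]; rfl
      · have h := (D.comm_iff s hs.1 p hp.1).1 (calc
          s * p = s * p * s⁻¹ * s := by group
          _ = p * s := by rw [e])
        rw [hsπ, hpπ, bf_enc (ev_sing' 0) ev_zero hr ev_zero, hr1] at h
        simp [dot] at h
    have hinvq : q0⁻¹ = p * p' := inv_eq_of_mul_eq_one_right (by
      rw [hq0, show p' * p * (p * p') = p' * (p * p) * p' by group]
      rcases sq_cases D hp.1 with e | e
      · rw [e, mul_one, hpp, e]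
      · calc p' * (p * p) * p' = (p' * z) * p' := by rw [e]
          _ = z * (p' * p') := by rw [← z_comm (mem_C D hp'Q), mul_assoc]
          _ = 1 := by rw [hpp, e, D.pre.gen.sq])
    have hYq : Y * q0 * Y⁻¹ = q0⁻¹ * z := by
      calc Y * q0 * Y⁻¹ = (Y * Y) * p * (Y * Y)⁻¹ * p' := by rw [hq0, hp']; group
        _ = p * (z * p') := by rw [hYY, hps]; group
        _ = p * p' * z := by rw [z_comm (mem_C D hp'Q), ← mul_assoc]
        _ = q0⁻¹ * z := by rw [hinvq]
    -- the element is the product up to the centraliser of the pair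
    obtain ⟨e, he, hwe⟩ : ∃ e, (Y * e * Y⁻¹ = e) ∧ w = q0 * e := by
      have hYz : Y * z * Y⁻¹ = z := z_conj hYC
      have hYs' : Y * s * Y⁻¹ = s := by rw [hYs]; group
      rcases hcases with e' | e' | e' | e'
      · exact absurd hv1.2.1 (by rw [e', CfsgLib.HJT.wt_zero]; decide)
      · exact absurd hv1.2.1 (by rw [e', CfsgLib.HJT.wt_sing]; decide)
      · rcases eq_of_π D hq0Q hw.1 (by rw [hπq0, hwπ, ← e']) with h | h
        · exact ⟨1, by group, by rw [h, mul_one]⟩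
        · exact ⟨z, hYz, h⟩
      · have hπ2 : D.π (q0 * s) = enc (pa σ r + r + sing 0) 0 := by
          rw [D.π_mul q0 hq0Q s hs.1, hπq0, hsπ, ← enc_add, add_zero]
        rcases eq_of_π D (mul_mem hq0Q hs.1) hw.1 (by rw [hπ2, hwπ, ← e']) with h | h
        · exact ⟨s, hYs', h⟩
        · exact ⟨s * z, by rw [show Y * (s * z) * Y⁻¹ = (Y * s * Y⁻¹) * (Y * z * Y⁻¹) by group, hYs', hYz], (by
            rw [h, mul_assoc])⟩
    have hq0z : q0 * q0 = z := by
      refine sq_of_wt (mem_Q1_of_π hq0Q hevq hπq0) ?_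
      rw [hπq0, (dec_enc _ _ hevq ev_zero).1]
      rcases hcases with e' | e' | e' | e'
      · exact absurd hv1.2.1 (by rw [e', CfsgLib.HJT.wt_zero]; decide)
      · exact absurd hv1.2.1 (by rw [e', CfsgLib.HJT.wt_sing]; decide)
      · rw [← e']; exact hv1.2.1
      · have hadd : ∀ a : V5, Ev a → dot (sing 0) (a + sing 0) = 0 → wt (a + sing 0) = 1 → wt a = 1 := by
          decide +kernel
        exact hadd _ hevq (by rw [← e']; exact hv1.2.2) (by rw [← e']; exact hv1.2.1)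
    refine hwY ?_
    rw [hwe, show Y * (q0 * e) * Y⁻¹ = (Y * q0 * Y⁻¹) * (Y * e * Y⁻¹) by group, hYq, he]
    congr 1
    rw [← hq0z]; group
  have hsing : pa σ v + v = sing 0 := (perp_image σ hinv 0 hσ0 v hv1.1 hv1.2.2).resolve_left hsum
  have hc : Y * w * Y⁻¹ = w * s * z := by
    refine (eq_of_π D (mul_mem hw.1 hs.1) hwc ?_).resolve_left hws2
    rw [D.π_mul w hw.1 s hs.1, hwπ, hsπ, hπc, ← enc_add, add_zero, ← hsing]
    congr 1
    have h2 : ∀ a c : V5, a = c + (a + c) := by decide +kernel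
    exact (h2 _ _).symm
  refine ⟨Y * w, mul_mem hYC (mem_C D hw.1), ?_, ?_, σ, hinv, ?_⟩
  · rw [mul_assoc, hwb, ← mul_assoc, hYb, mul_assoc]
  · calc Y * w * (Y * w) = (Y * w * Y⁻¹) * (Y * Y) * w := by group
      _ = w * (s * z) * s * w := by rw [hc, hYY]; group
      _ = w * (s * (z * s)) * w := by group
      _ = w * (s * (s * z)) * w := by rw [z_comm (mem_C D hs.1)]
      _ = w * z * w := by rw [← mul_assoc s s z, hss, one_mul]
      _ = z * (w * w) := by rw [← z_comm (mem_C D hw.1), mul_assoc]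
      _ = 1 := by rw [hww, D.pre.gen.sq]
  · rw [hact_mul hYC (mem_C D hw.1), hact_Q hw.1, mul_one, hact']

end Five

end CfsgLib.Co1Five
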