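import Cfsg.Agent.Co1Invol.Axial
import Cfsg.Agent.HJT.Space

/-!
The eight-dimensional space of plus type over two elements as the orthogonal sum of two even-weight modules
of the symmetric group of degree five, and the corresponding subgroup of the orthogonal group.
-/

set_option autoImplicit false
set_option maxRecDepth 100000
set_option synthInstance.maxSize 4096
set_option linter.style.haveILetI false

namespace CfsgLib.Co1Five

open CfsgLib CfsgLib.Quad CfsgLib.Co1Invol Subgroup
open CfsgLib.HJT (V5 Ev wt dot sing)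

local notation "pa" => CfsgLib.HJT.act

/-- The first block. -/
def enc1 (v : V5) : M8 :=
  Sum.elim ![v 1, (v 2 + v 0 + v 1) + (v 4 + v 0 + v 1), v 4 + v 0 + v 1, 0]
    ![v 0, v 2 + v 0 + v 1, v 4 + v 0 + v 1, 0]

/-- The second block. -/
def enc2 (v : V5) : M8 :=
  Sum.elim ![0, v 4 + v 0 + v 1, (v 2 + v 0 + v 1) + (v 4 + v 0 + v 1), v 1]
    ![0, v 4 + v 0 + v 1, v 2 + v 0 + v 1, v 0]

/-- Both blocks. -/
def enc (v w : V5) : M8 := enc1 v + enc2 w

/-- The even vector with the given four coordinates. -/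
def mk5 (a b c d : ZMod 2) : V5 := ![b, a, a + b + c, a + b + c + d, a + b + d]

/-- The coordinate in the first block. -/
def dec1 (m : M8) : V5 :=
  mk5 (m (.inl 0)) (m (.inr 0)) (m (.inr 1) + (m (.inl 2) + m (.inr 2))) (m (.inl 1) + m (.inr 1))

/-- The coordinate in the second block. -/
def dec2 (m : M8) : V5 :=
  mk5 (m (.inl 3)) (m (.inr 3)) (m (.inr 2) + (m (.inl 1) + m (.inr 1))) (m (.inl 2) + m (.inr 2))

theorem ev_dec : ∀ m : M8, Ev (dec1 m) ∧ Ev (dec2 m) := by decide +kernel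

theorem enc_dec : ∀ m : M8, enc (dec1 m) (dec2 m) = m := by decide +kernel

theorem dec_enc : ∀ v w : V5, Ev v → Ev w → dec1 (enc v w) = v ∧ dec2 (enc v w) = w := by decide +kernel

theorem qf_enc : ∀ v w : V5, Ev v → Ev w → qf (enc v w) = wt v + wt w := by decide +kernel

theorem mk5_add (a b c d a' b' c' d' : ZMod 2) :
    mk5 (a + a') (b + b') (c + c') (d + d') = mk5 a b c d + mk5 a' b' c' d' := by
  funext i; fin_cases i <;> simp [mk5] <;> ring

theorem dec1_add (m n : M8) : dec1 (m + n) = dec1 m + dec1 n := by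
  simp only [dec1, ← mk5_add, Pi.add_apply]; congr 1 <;> ring

theorem dec2_add (m n : M8) : dec2 (m + n) = dec2 m + dec2 n := by
  simp only [dec2, ← mk5_add, Pi.add_apply]; congr 1 <;> ring

theorem enc1_add (v v' : V5) : enc1 (v + v') = enc1 v + enc1 v' := by
  funext i
  rcases i with i | i <;> fin_cases i <;> simp [enc1] <;> ring

theorem enc2_add (v v' : V5) : enc2 (v + v') = enc2 v + enc2 v' := by
  funext i
  rcases i with i | i <;> fin_cases i <;> simp [enc2] <;> ring

theorem enc_add (v v' w w' : V5) : enc (v + v') (w + w') = enc v w + enc v' w' := by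
  simp only [enc, enc1_add, enc2_add]; abel

theorem enc_zero : enc 0 0 = 0 := by decide +kernel

theorem ev_zero : Ev 0 := by decide

theorem ev_add : ∀ u v : V5, Ev u → Ev v → Ev (u + v) := by decide

theorem ev_pa (σ : Equiv.Perm (Fin 5)) {v : V5} (h : Ev v) : Ev (pa σ v) := by
  show ∑ i, v (σ.symm i) = 0
  rw [Equiv.sum_comp σ.symm v]; exact h

theorem wt_pa (σ : Equiv.Perm (Fin 5)) (v : V5) : wt (pa σ v) = wt v := by
  have h : (Finset.univ.filter fun i => pa σ v i = 1) = (Finset.univ.filter fun i => v i = 1).map σ.toEmbedding := by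
    ext i; rw [Finset.mem_map_equiv, Finset.mem_filter, Finset.mem_filter]; simp [CfsgLib.HJT.act]
  simp only [wt, h, Finset.card_map]

theorem enc_inj {v w v' w' : V5} (hv : Ev v) (hw : Ev w) (hv' : Ev v') (hw' : Ev w')
    (h : enc v w = enc v' w') : v = v' ∧ w = w' :=
  ⟨(dec_enc v w hv hw).1.symm.trans ((congrArg dec1 h).trans (dec_enc v' w' hv' hw').1),
    (dec_enc v w hv hw).2.symm.trans ((congrArg dec2 h).trans (dec_enc v' w' hv' hw').2)⟩

theorem exists_enc (m : M8) : ∃ v w, Ev v ∧ Ev w ∧ m = enc v w :=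
  ⟨_, _, (ev_dec m).1, (ev_dec m).2, (enc_dec m).symm⟩

theorem bf_enc {v w v' w' : V5} (hv : Ev v) (hw : Ev w) (hv' : Ev v') (hw' : Ev w') :
    bf (enc v w) (enc v' w') = dot v v' + dot w w' := by
  have h := qf_add (enc v w) (enc v' w')
  rw [← enc_add, qf_enc _ _ (ev_add v v' hv hv') (ev_add w w' hw hw'), qf_enc _ _ hv hw, qf_enc _ _ hv' hw',
    CfsgLib.HJT.wt_add v v' hv hv', CfsgLib.HJT.wt_add w w' hw hw'] at h
  linear_combination (-1 : ZMod 2) * h

/-- Exchanging the two blocks. -/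
def swapFun (m : M8) : M8 := enc (dec2 m) (dec1 m)

theorem swapFun_enc {v w : V5} (hv : Ev v) (hw : Ev w) : swapFun (enc v w) = enc w v := by
  rw [swapFun, (dec_enc v w hv hw).1, (dec_enc v w hv hw).2]

/-- The permutation pair, as a map. -/
def iotaFun (p : Equiv.Perm (Fin 5) × Equiv.Perm (Fin 5)) (m : M8) : M8 :=
  enc (pa p.1 (dec1 m)) (pa p.2 (dec2 m))

theorem iotaFun_add (p : Equiv.Perm (Fin 5) × Equiv.Perm (Fin 5)) (m n : M8) :
    iotaFun p (m + n) = iotaFun p m + iotaFun p n := by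
  simp only [iotaFun, dec1_add, dec2_add, CfsgLib.HJT.act_add, enc_add]

theorem iotaFun_enc (p : Equiv.Perm (Fin 5) × Equiv.Perm (Fin 5)) {v w : V5} (hv : Ev v) (hw : Ev w) :
    iotaFun p (enc v w) = enc (pa p.1 v) (pa p.2 w) := by
  rw [iotaFun, (dec_enc v w hv hw).1, (dec_enc v w hv hw).2]

theorem iotaFun_mul (p p' : Equiv.Perm (Fin 5) × Equiv.Perm (Fin 5)) (m : M8) :
    iotaFun (p * p') m = iotaFun p (iotaFun p' m) := by
  obtain ⟨v, w, hv, hw, rfl⟩ := exists_enc m
  rw [iotaFun_enc _ hv hw, iotaFun_enc _ hv hw, iotaFun_enc _ (ev_pa _ hv) (ev_pa _ hw)]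
  rfl

theorem iotaFun_one (m : M8) : iotaFun 1 m = m := by
  simp [iotaFun, enc_dec]

theorem qf_iotaFun (p : Equiv.Perm (Fin 5) × Equiv.Perm (Fin 5)) (m : M8) : qf (iotaFun p m) = qf m := by
  obtain ⟨v, w, hv, hw, rfl⟩ := exists_enc m
  rw [iotaFun_enc _ hv hw, qf_enc _ _ hv hw, qf_enc _ _ (ev_pa _ hv) (ev_pa _ hw), wt_pa, wt_pa]

/-- The permutation pair, as an isometry. -/
def iotaIso (p : Equiv.Perm (Fin 5) × Equiv.Perm (Fin 5)) : O8 :=
  ⟨{ toFun := iotaFun p
     map_add' := iotaFun_add p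
     map_smul' := fun c m => ((AddMonoidHom.mk' (iotaFun p) (iotaFun_add p)).toZModLinearMap 2).map_smul c m
     invFun := iotaFun p⁻¹
     left_inv := fun m => by rw [← iotaFun_mul, inv_mul_cancel, iotaFun_one]
     right_inv := fun m => by rw [← iotaFun_mul, mul_inv_cancel, iotaFun_one] },
    fun m => by rw [q8_eq, q8_eq]; exact qf_iotaFun p m⟩

@[simp] theorem iotaIso_apply (p : Equiv.Perm (Fin 5) × Equiv.Perm (Fin 5)) (m : M8) :
    (iotaIso p).1 m = iotaFun p m := rfl

/-- The permutation pairs in the orthogonal group. -/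
def iota : Equiv.Perm (Fin 5) × Equiv.Perm (Fin 5) →* O8 :=
  MonoidHom.mk' iotaIso fun p p' => Subtype.ext (LinearEquiv.ext fun m => iotaFun_mul p p' m)

theorem iota_enc (σ τ : Equiv.Perm (Fin 5)) {v w : V5} (hv : Ev v) (hw : Ev w) :
    (iota (σ, τ)).1 (enc v w) = enc (pa σ v) (pa τ w) := iotaFun_enc _ hv hw

theorem ev_sing' : ∀ i : Fin 5, Ev (sing i) := CfsgLib.HJT.ev_sing

theorem perm_ext {σ τ : Equiv.Perm (Fin 5)} (h : ∀ v, Ev v → pa σ v = pa τ v) : σ = τ := by
  refine Equiv.ext fun i => CfsgLib.HJT.sing_inj _ _ ?_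
  rw [← CfsgLib.HJT.act_sing, ← CfsgLib.HJT.act_sing]
  exact h _ (ev_sing' i)

theorem iota_injective : Function.Injective iota := by
  rintro ⟨σ, τ⟩ ⟨σ', τ'⟩ h
  have h' : ∀ v w, Ev v → Ev w → pa σ v = pa σ' v ∧ pa τ w = pa τ' w := fun v w hv hw => by
    have := congrArg (fun g : O8 => g.1 (enc v w)) h
    simp only [iota_enc _ _ hv hw] at this
    exact enc_inj (ev_pa _ hv) (ev_pa _ hw) (ev_pa _ hv) (ev_pa _ hw) this
  exact Prod.ext (perm_ext fun v hv => (h' v 0 hv ev_zero).1) (perm_ext fun w hw => (h' 0 w ev_zero hw).2)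

theorem pa_zero (σ : Equiv.Perm (Fin 5)) : pa σ 0 = 0 := rfl

theorem ev_span (f g : V5 → V5) (hf : ∀ u v, Ev u → Ev v → f (u + v) = f u + f v)
    (hg : ∀ u v, Ev u → Ev v → g (u + v) = g u + g v) (hs : ∀ i, f (sing i) = g (sing i)) :
    ∀ v, Ev v → f v = g v := by
  have key : ∀ v : V5, Ev v → ∃ l : List (Fin 5), (l.map sing).sum = v := by
    intro v hv
    have : ∀ v : V5, Ev v → ∃ c : Fin 5 → Bool,
        (((List.finRange 5).filter c).map sing).sum = v := by decide +kernel
    obtain ⟨c, hc⟩ := this v hv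
    exact ⟨_, hc⟩
  intro v hv
  obtain ⟨l, rfl⟩ := key v hv
  have hev : ∀ l : List (Fin 5), Ev ((l.map sing).sum) := by
    intro l
    induction l with
    | nil => exact ev_zero
    | cons i l ih => rw [List.map_cons, List.sum_cons]; exact ev_add _ _ (ev_sing' i) ih
  clear hv
  induction l with
  | nil =>
    have h1 := hf 0 0 ev_zero ev_zero
    have h2 := hg 0 0 ev_zero ev_zero
    rw [add_zero, left_eq_add] at h1 h2
    simp [h1, h2]
  | cons i l ih =>
    rw [List.map_cons, List.sum_cons, hf _ _ (ev_sing' i) (hev l), hg _ _ (ev_sing' i) (hev l), hs, ih]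

/-- An additive weight-preserving map of the even vectors is a permutation. -/
theorem exists_perm (T : V5 → V5) (hev : ∀ v, Ev v → Ev (T v))
    (hadd : ∀ u v, Ev u → Ev v → T (u + v) = T u + T v) (hwt : ∀ v, Ev v → wt (T v) = wt v)
    (hker : ∀ v, Ev v → T v = 0 → v = 0) : ∃ τ, ∀ v, Ev v → T v = pa τ v := by
  have hs : ∀ i, ∃ j, T (sing i) = sing j := fun i => by
    refine (CfsgLib.HJT.wt_zero_cases _ (hev _ (ev_sing' i)) ?_).resolve_left fun h =>
      CfsgLib.HJT.sing_ne_zero i (hker _ (ev_sing' i) h)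
    rw [hwt _ (ev_sing' i), CfsgLib.HJT.wt_sing]
  choose f hf using hs
  have hinj : Function.Injective f := fun i j h => by
    refine CfsgLib.HJT.sing_inj _ _ (sub_eq_zero.1 ?_)
    have h2 : ∀ a b : V5, a - b = a + b := by decide
    rw [h2]
    refine hker _ (ev_add _ _ (ev_sing' i) (ev_sing' j)) ?_
    rw [hadd _ _ (ev_sing' i) (ev_sing' j), hf, hf, h, ← h2, sub_self]
  refine ⟨Equiv.ofBijective f (Finite.injective_iff_bijective.1 hinj), ev_span _ _ hadd
    (fun u v _ _ => CfsgLib.HJT.act_add _ u v) fun i => ?_⟩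
  rw [CfsgLib.HJT.act_sing, hf]; rfl

theorem dot_nondeg : ∀ v : V5, Ev v → (∀ u : V5, Ev u → dot u v = 0) → v = 0 := by decide +kernel

theorem apply_zero (g : O8) : g.1 0 = 0 := map_zero _

/-- The stabiliser of the first block. -/
theorem mem_iota_range {g : O8} (h : ∀ v, Ev v → dec2 (g.1 (enc v 0)) = 0) : ∃ σ τ, g = iota (σ, τ) := by
  set T : V5 → V5 := fun v => dec1 (g.1 (enc v 0)) with hT
  have hTe : ∀ v, Ev v → g.1 (enc v 0) = enc (T v) 0 := fun v hv => by
    conv_lhs => rw [← enc_dec (g.1 (enc v 0)), h v hv]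
  have hz : ∀ m, g.1 m = 0 → m = 0 := fun m hm => g.1.map_eq_zero_iff.1 hm
  obtain ⟨σ, hσ⟩ := exists_perm T (fun v _ => (ev_dec _).1)
    (fun u v _ _ => by rw [hT]; simp only; rw [show enc (u + v) 0 = enc u 0 + enc v 0 by rw [← enc_add, add_zero],
      map_add, dec1_add])
    (fun v hv => by
      have := qf_oGroup g (enc v 0)
      rwa [hTe v hv, qf_enc _ _ (ev_dec _).1 ev_zero, qf_enc _ _ hv ev_zero, CfsgLib.HJT.wt_zero, add_zero,
        add_zero] at this)
    (fun v hv e => by
      have := hz _ (by rw [hTe v hv, e, enc_zero])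
      exact (enc_inj hv ev_zero ev_zero ev_zero (this.trans enc_zero.symm)).1)
  set U : V5 → V5 := fun w => dec2 (g.1 (enc 0 w)) with hU
  have hUe : ∀ w, Ev w → g.1 (enc 0 w) = enc 0 (U w) := fun w hw => by
    obtain ⟨a, b, ha, hb, hab⟩ := exists_enc (g.1 (enc 0 w))
    have ha0 : a = 0 := dot_nondeg a ha fun u hu => by
      have := bf_oGroup g (enc (pa σ.symm u) 0) (enc 0 w)
      rw [hTe _ (ev_pa _ hu), hσ _ (ev_pa _ hu), ← CfsgLib.HJT.act_mul, show σ * σ.symm = 1 from mul_inv_cancel σ,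
        CfsgLib.HJT.act_one, hab, bf_enc hu ev_zero ha hb, bf_enc (ev_pa _ hu) ev_zero ev_zero hw] at this
      simpa [dot] using this
    rw [hU]; simp only; rw [hab, ha0, (dec_enc 0 b ev_zero hb).2]
  obtain ⟨τ, hτ⟩ := exists_perm U (fun v _ => (ev_dec _).2)
    (fun u v _ _ => by rw [hU]; simp only; rw [show enc 0 (u + v) = enc 0 u + enc 0 v by rw [← enc_add, add_zero],
      map_add, dec2_add])
    (fun v hv => by
      have := qf_oGroup g (enc 0 v)
      rwa [hUe v hv, qf_enc _ _ ev_zero (ev_dec _).2, qf_enc _ _ ev_zero hv, CfsgLib.HJT.wt_zero, zero_add,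
        zero_add] at this)
    (fun v hv e => by
      have := hz _ (by rw [hUe v hv, e, enc_zero])
      exact (enc_inj ev_zero hv ev_zero ev_zero (this.trans enc_zero.symm)).2)
  refine ⟨σ, τ, Subtype.ext (LinearEquiv.ext fun m => ?_)⟩
  obtain ⟨v, w, hv, hw, rfl⟩ := exists_enc m
  rw [iota_enc _ _ hv hw, show enc v w = enc v 0 + enc 0 w by rw [← enc_add, add_zero, zero_add], map_add,
    hTe v hv, hUe w hw, ← enc_add, add_zero, zero_add, hσ v hv, hτ w hw]

theorem iota_swap_not_mem (i j : Fin 5) (hij : i ≠ j) : iota (Equiv.swap i j, 1) ∉ commutator (oGroup q8) := by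
  intro h
  set g := iota (Equiv.swap i j, (1 : Equiv.Perm (Fin 5))) with hg
  have hsq : g * g = 1 := by rw [hg, ← map_mul, Prod.mk_mul_mk, Equiv.swap_mul_self, one_mul]; exact map_one iota
  have hne : g ≠ 1 := fun e => hij (by
    have := congrArg Prod.fst (iota_injective (e.trans (map_one iota).symm))
    exact Equiv.swap_eq_one_iff.1 this)
  have key : ∀ i j : Fin 5, ∀ v : V5, Ev v → v + pa (Equiv.swap i j) v = 0 ∨ v + pa (Equiv.swap i j) v = sing i + sing j := by
    decide +kernel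
  have hle : LinearMap.range (disp g) ≤ Submodule.span (ZMod 2) {enc (sing i + sing j) 0} := by
    rintro _ ⟨m, rfl⟩
    obtain ⟨v, w, hv, hw, rfl⟩ := exists_enc m
    rw [disp_apply, hg, iota_enc _ _ hv hw, CfsgLib.HJT.act_one, ← enc_add, add_comm (pa _ v),
      show w + w = 0 from funext fun _ => CharTwo.add_self_eq_zero _]
    rcases key i j v hv with e | e <;> rw [e]
    · rw [enc_zero]; exact zero_mem _
    · exact Submodule.subset_span rfl
  have hr := Submodule.finrank_mono hle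
  have h1 : Module.finrank (ZMod 2) (Submodule.span (ZMod 2) ({enc (sing i + sing j) 0} : Set M8)) ≤ 1 :=
    (finrank_span_le_card _).trans (by simp)
  rcases rank_cases hsq h hne with h2 | ⟨h4, -⟩ <;> omega

theorem iota_swap_not_mem' (i j : Fin 5) (hij : i ≠ j) : iota (1, Equiv.swap i j) ∉ commutator (oGroup q8) := by
  intro h
  set g := iota ((1 : Equiv.Perm (Fin 5)), Equiv.swap i j) with hg
  have hsq : g * g = 1 := by rw [hg, ← map_mul, Prod.mk_mul_mk, Equiv.swap_mul_self, one_mul]; exact map_one iota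
  have hne : g ≠ 1 := fun e => hij (by
    have := congrArg Prod.snd (iota_injective (e.trans (map_one iota).symm))
    exact Equiv.swap_eq_one_iff.1 this)
  have key : ∀ i j : Fin 5, ∀ v : V5, Ev v → v + pa (Equiv.swap i j) v = 0 ∨ v + pa (Equiv.swap i j) v = sing i + sing j := by
    decide +kernel
  have hle : LinearMap.range (disp g) ≤ Submodule.span (ZMod 2) {enc 0 (sing i + sing j)} := by
    rintro _ ⟨m, rfl⟩
    obtain ⟨v, w, hv, hw, rfl⟩ := exists_enc m
    rw [disp_apply, hg, iota_enc _ _ hv hw, CfsgLib.HJT.act_one, ← enc_add, add_comm (pa _ w),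
      show v + v = 0 from funext fun _ => CharTwo.add_self_eq_zero _]
    rcases key i j w hw with e | e <;> rw [e]
    · rw [enc_zero]; exact zero_mem _
    · exact Submodule.subset_span rfl
  have hr := Submodule.finrank_mono hle
  have h1 : Module.finrank (ZMod 2) (Submodule.span (ZMod 2) ({enc 0 (sing i + sing j)} : Set M8)) ≤ 1 :=
    (finrank_span_le_card _).trans (by simp)
  rcases rank_cases hsq h hne with h2 | ⟨h4, -⟩ <;> omega

theorem mul_mem_iff8 (a b : O8) : a * b ∈ commutator (oGroup q8) ↔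
    (a ∈ commutator (oGroup q8) ↔ b ∈ commutator (oGroup q8)) :=
  Subgroup.mul_mem_iff_of_index_two (index_commutator_char_two nondeg8 (by simp) hgen8)

/-- Membership in the commutator subgroup. -/
theorem iota_mem_iff (σ τ : Equiv.Perm (Fin 5)) :
    iota (σ, τ) ∈ commutator (oGroup q8) ↔ Equiv.Perm.sign σ = Equiv.Perm.sign τ := by
  have h1 : ∀ σ : Equiv.Perm (Fin 5), iota (σ, 1) ∈ commutator (oGroup q8) ↔ Equiv.Perm.sign σ = 1 := by
    intro σ
    induction σ using Equiv.Perm.swap_induction_on with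
    | one => simpa [← Prod.one_eq_mk] using one_mem _
    | swap_mul f i j hij ih =>
      rw [show ((Equiv.swap i j * f, 1) : Equiv.Perm (Fin 5) × Equiv.Perm (Fin 5)) = (Equiv.swap i j, 1) * (f, 1)
        by rw [Prod.mk_mul_mk, one_mul], map_mul, mul_mem_iff8, iff_false_left (iota_swap_not_mem i j hij), ih,
        map_mul, Equiv.Perm.sign_swap hij]
      generalize Equiv.Perm.sign f = s
      revert s; decide
  have h2 : ∀ τ : Equiv.Perm (Fin 5), iota (1, τ) ∈ commutator (oGroup q8) ↔ Equiv.Perm.sign τ = 1 := by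
    intro τ
    induction τ using Equiv.Perm.swap_induction_on with
    | one => simpa [← Prod.one_eq_mk] using one_mem _
    | swap_mul f i j hij ih =>
      rw [show ((1, Equiv.swap i j * f) : Equiv.Perm (Fin 5) × Equiv.Perm (Fin 5)) = (1, Equiv.swap i j) * (1, f)
        by rw [Prod.mk_mul_mk, one_mul], map_mul, mul_mem_iff8, iff_false_left (iota_swap_not_mem' i j hij), ih,
        map_mul, Equiv.Perm.sign_swap hij]
      generalize Equiv.Perm.sign f = s
      revert s; decide
  rw [show ((σ, τ) : Equiv.Perm (Fin 5) × Equiv.Perm (Fin 5)) = (σ, 1) * (1, τ) by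
    rw [Prod.mk_mul_mk, mul_one, one_mul], map_mul, mul_mem_iff8, h1, h2]
  generalize Equiv.Perm.sign σ = s
  generalize Equiv.Perm.sign τ = t
  revert s t; decide

theorem swapFun_add (m n : M8) : swapFun (m + n) = swapFun m + swapFun n := by
  simp only [swapFun, dec1_add, dec2_add, enc_add]

theorem swapFun_self (m : M8) : swapFun (swapFun m) = m := by
  obtain ⟨v, w, hv, hw, rfl⟩ := exists_enc m
  rw [swapFun_enc hv hw, swapFun_enc hw hv]

/-- Exchanging the two blocks, as an isometry. -/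
def flip8 : O8 :=
  ⟨{ toFun := swapFun
     map_add' := swapFun_add
     map_smul' := fun c m => ((AddMonoidHom.mk' swapFun swapFun_add).toZModLinearMap 2).map_smul c m
     invFun := swapFun
     left_inv := swapFun_self
     right_inv := swapFun_self },
    fun m => by
      rw [q8_eq, q8_eq]
      show qf (swapFun m) = qf m
      obtain ⟨v, w, hv, hw, rfl⟩ := exists_enc m
      rw [swapFun_enc hv hw, qf_enc _ _ hv hw, qf_enc _ _ hw hv, add_comm]⟩

theorem flip8_enc {v w : V5} (hv : Ev v) (hw : Ev w) : flip8.1 (enc v w) = enc w v := swapFun_enc hv hw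

theorem flip8_mul_self : flip8 * flip8 = 1 := Subtype.ext (LinearEquiv.ext swapFun_self)

theorem flip8_conj (σ τ : Equiv.Perm (Fin 5)) : flip8 * iota (σ, τ) * flip8⁻¹ = iota (τ, σ) := by
  rw [inv_eq_of_mul_eq_one_right flip8_mul_self]
  refine Subtype.ext (LinearEquiv.ext fun m => ?_)
  obtain ⟨v, w, hv, hw, rfl⟩ := exists_enc m
  show flip8.1 ((iota (σ, τ)).1 (flip8.1 (enc v w))) = _
  rw [flip8_enc hv hw, iota_enc _ _ hw hv, flip8_enc (ev_pa _ hw) (ev_pa _ hv), iota_enc _ _ hv hw]

end CfsgLib.Co1Five
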