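import Cfsg.Agent.Co1Five.Closure

/-!
Further finite facts for the complement.
-/

set_option autoImplicit false
set_option maxRecDepth 100000
set_option synthInstance.maxSize 4096

namespace CfsgLib.Co1Five

open CfsgLib.HJT (V5 Ev wt dot sing IsInv5)

local notation "pa" => CfsgLib.HJT.act

theorem dual4 : ∀ f : Fin 4 → ZMod 2, ∃ u : V5, Ev u ∧ ∀ i : Fin 4, dot u (sing i.castSucc) = f i := by
  decide +kernel

theorem sing_four : sing 4 = sing 0 + (sing 1 + (sing 2 + sing 3)) := by decide +kernel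

theorem fixed_image : ∀ r : V5, Ev r → pa σ₀ r = r → ∃ p : V5, Ev p ∧ r = pa σ₀ p + p := by decide +kernel

theorem alt_word : ∀ τ : Equiv.Perm (Fin 5), Equiv.Perm.sign τ = 1 →
    ∃ n : Idx, ∃ i : Fin 5, τ = rep σ₀ β n * β ^ i.val := by decide +kernel

theorem rep_mem {G : Type*} [Group G] (x b : G) (n : Idx) : rep x b n ∈ Subgroup.closure {x, b} := by
  have hx : x ∈ Subgroup.closure {x, b} := Subgroup.subset_closure (Or.inl rfl)
  have hb : b ∈ Subgroup.closure {x, b} := Subgroup.subset_closure (Or.inr rfl)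
  rcases n with (_ | i) | (i | _)
  · exact one_mem _
  · exact mul_mem (pow_mem hb _) hx
  · exact mul_mem (pow_mem hb _) (mul_mem (mul_mem hx (pow_mem hb 2)) hx)
  · exact mul_mem (mul_mem hx (pow_mem hb 3)) (mul_mem (mul_mem hx (pow_mem hb 2)) hx)

theorem map_rep {G H : Type*} [Group G] [Group H] (f : G →* H) (x b : G) (n : Idx) :
    f (rep x b n) = rep (f x) (f b) n := by
  rcases n with (_ | i) | (i | _) <;> simp [rep]

end CfsgLib.Co1Five
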