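import Cfsg.Agent.Co1Five.Pair
import Cfsg.Agent.Co1Five.SplitFacts

/-!
The alternating group of degree five on the second block, as a subgroup of the involution centraliser.
-/

set_option autoImplicit false
set_option maxRecDepth 100000
set_option synthInstance.maxSize 4096
set_option linter.style.haveILetI false
set_option linter.unusedSectionVars false

namespace CfsgLib.Co1Five

open CfsgLib CfsgLib.Quad CfsgLib.Co1Invol Subgroup
open CfsgLib.HJT (V5 Ev wt dot sing IsInv5)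

local notation "pa" => CfsgLib.HJT.act

variable {G : Type*} [Group G] [Finite G] {z : G} {D : Dat z}

/-- The centraliser of the part over the first block. -/
def K2 (D : Dat z) : Subgroup G := centralizer ({z} : Set G) ⊓ centralizer (Q1 D : Set G)

theorem mem_K2 {c : G} : c ∈ K2 D ↔ c ∈ centralizer ({z} : Set G) ∧ ∀ q ∈ Q1 D, c * q = q * c :=
  ⟨fun h => ⟨h.1, fun q hq => ((mem_centralizer_iff.1 h.2) q hq).symm⟩,
    fun h => ⟨h.1, mem_centralizer_iff.2 fun q hq => (h.2 q hq).symm⟩⟩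

theorem z_K2 : z ∈ K2 D := mem_K2.2 ⟨z_Cz, fun _ hq => z_comm (mem_C D hq.1)⟩

theorem Q2_le_K2 {q : G} (hq : q ∈ Q2 D) : q ∈ K2 D :=
  mem_K2.2 ⟨mem_C D hq.1, fun _ hr => (Q1_Q2_comm hr hq).symm⟩

theorem K2_Q {q : G} (hq : q ∈ K2 D) (hQ : q ∈ D.Q) : q ∈ Q2 D := by
  refine ⟨hQ, dot_nondeg _ (ev_dec _).1 fun u hu => ?_⟩
  obtain ⟨r, hr, hrπ⟩ := exists_Q1 D hu
  have h := (D.comm_iff r hr.1 q hQ).1 ((mem_K2.1 hq).2 r hr).symm
  rw [hrπ] at h
  conv at h => lhs; arg 2; rw [← enc_dec (D.π q)]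
  rwa [bf_enc hu ev_zero (ev_dec _).1 (ev_dec _).2, show dot 0 (dec2 (D.π q)) = 0 by simp [dot], add_zero] at h

theorem K2_form {c : G} (hc : c ∈ K2 D) :
    ∃ τ, Equiv.Perm.sign τ = 1 ∧ hact D c = iota (1, τ) := by
  obtain ⟨hcC, hcQ⟩ := mem_K2.1 hc
  have hfix : ∀ v, Ev v → (hact D c).1 (enc v 0) = enc v 0 := by
    intro v hv
    obtain ⟨q, hq, hqπ⟩ := exists_Q1 D hv
    rw [← hqπ, ← (π_conj hcC hq.1).2, hcQ q hq, mul_inv_cancel_right]
  obtain ⟨σ, τ, hg⟩ := mem_iota_range (g := hact D c) fun v hv => by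
    rw [hfix v hv, (dec_enc v 0 hv ev_zero).2]
  have hσ : σ = 1 := perm_ext fun v hv => by
    have h := hfix v hv
    rw [hg, iota_enc _ _ hv ev_zero] at h
    rw [CfsgLib.HJT.act_one]
    exact (enc_inj (ev_pa _ hv) (ev_pa _ ev_zero) hv ev_zero h).1
  subst hσ
  refine ⟨τ, ?_, hg⟩
  have hm := hact_mem (D := D) c
  rw [hg, iota_mem_iff, map_one] at hm
  exact hm.symm

theorem exists_K2 (D : Dat z) {τ : Equiv.Perm (Fin 5)} (hτ : Equiv.Perm.sign τ = 1) :
    ∃ c ∈ K2 D, hact D c = iota (1, τ) := by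
  classical
  obtain ⟨c, hc, hact'⟩ := exists_lift D (σ := 1) (τ := τ) (by rw [map_one, hτ])
  have hq : ∀ i : Fin 4, ∃ q ∈ Q1 D, D.π q = enc (sing i.castSucc) 0 := fun i => exists_Q1 D (ev_sing' _)
  choose q hq hqπ using hq
  obtain ⟨u, hu, hdot⟩ := dual4 fun i => if c * q i = q i * c then 0 else 1
  obtain ⟨qu, hqu, hquπ⟩ := exists_Q1 D hu
  set c' := qu * c with hc'
  have hc'C : c' ∈ centralizer ({z} : Set G) := mul_mem (mem_C D hqu.1) hc
  have hgen : ∀ i, c' * q i = q i * c' := by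
    intro i
    have hcq : c * q i * c⁻¹ = q i ∨ c * q i * c⁻¹ = q i * z :=
      eq_of_π D (hq i).1 (norm_Q D hc (hq i).1) (by
        rw [(π_conj hc (hq i).1).2, hact', hqπ, iota_enc _ _ (ev_sing' _) ev_zero, CfsgLib.HJT.act_one, pa_zero])
    have hb : bf (D.π qu) (D.π (q i)) = dot u (sing i.castSucc) := by
      rw [hquπ, hqπ, bf_enc hu ev_zero (ev_sing' _) ev_zero]; simp [dot]
    by_cases hcomm : c * q i = q i * c
    · have h0 : qu * q i = q i * qu := (D.comm_iff _ hqu.1 _ (hq i).1).2 (by rw [hb, hdot, if_pos hcomm])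
      rw [hc', mul_assoc, hcomm, ← mul_assoc, h0, mul_assoc]
    · have h1 : c * q i * c⁻¹ = q i * z := hcq.resolve_left fun e => hcomm (by
        calc c * q i = c * q i * c⁻¹ * c := by group
          _ = q i * c := by rw [e])
      have h2 : qu * q i * qu⁻¹ = q i * z := by
        refine (eq_of_π D (hq i).1 (norm_Q D (mem_C D hqu.1) (hq i).1) ?_).resolve_left fun e => ?_
        · rw [(π_conj (mem_C D hqu.1) (hq i).1).2, hact_Q hqu.1]; rfl
        · have h := (D.comm_iff _ hqu.1 _ (hq i).1).1 (calc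
            qu * q i = qu * q i * qu⁻¹ * qu := by group
            _ = q i * qu := by rw [e])
          rw [hb, hdot, if_neg hcomm] at h
          exact one_ne_zero h
      calc c' * q i = qu * (c * q i * c⁻¹) * c := by rw [hc']; group
        _ = (qu * q i * qu⁻¹) * (qu * z) * c := by rw [h1]; group
        _ = q i * (z * z) * qu * c := by rw [h2, ← z_comm (mem_C D hqu.1)]; group
        _ = q i * c' := by rw [D.pre.gen.sq, hc']; group
  refine ⟨c', mem_K2.2 ⟨hc'C, ?_⟩, by rw [hact_mul (mem_C D hqu.1) hc, hact_Q hqu.1, one_mul, hact']⟩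
  -- the set of first-block vectors whose preimages are centralised
  have key : ∀ l : List (Fin 5), ∀ r ∈ Q1 D, D.π r = enc ((l.map sing).sum) 0 → c' * r = r * c' := by
    have hone : ∀ i : Fin 5, ∀ r ∈ Q1 D, D.π r = enc (sing i) 0 → c' * r = r * c' := by
      intro i r hr hπ
      have hz : c' * z = z * c' := mem_Cz.1 hc'C
      have hclose : ∀ a, a ∈ D.Q → c' * a = a * c' → D.π r = D.π a → c' * r = r * c' := by
        intro a ha hca hπa
        rcases eq_of_π D ha hr.1 hπa.symm with e | e <;> rw [e]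
        · exact hca
        · rw [← mul_assoc, hca, mul_assoc, hz, mul_assoc]
      by_cases hi : i = 4
      · subst hi
        refine hclose (q 0 * (q 1 * (q 2 * q 3))) (mul_mem (hq 0).1 (mul_mem (hq 1).1 (mul_mem (hq 2).1 (hq 3).1)))
          ?_ ?_
        · exact ((Commute.mul_right (hgen 0) (Commute.mul_right (hgen 1) (Commute.mul_right (hgen 2) (hgen 3)))) : _)
        · rw [hπ, D.π_mul _ (hq 0).1 _ (mul_mem (hq 1).1 (mul_mem (hq 2).1 (hq 3).1)),
            D.π_mul _ (hq 1).1 _ (mul_mem (hq 2).1 (hq 3).1), D.π_mul _ (hq 2).1 _ (hq 3).1, hqπ, hqπ, hqπ, hqπ,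
            sing_four]
          simp only [← enc_add, add_zero]
          rfl
      · have hlt : i.val < 4 := by
          rcases i with ⟨i, h5⟩
          simp only [Fin.ext_iff] at hi
          change ¬ i = 4 at hi
          show i < 4
          omega
        exact hclose _ (hq ⟨i.val, hlt⟩).1 (hgen _) (by rw [hπ, hqπ]; rfl)
    intro l
    induction l with
    | nil =>
      intro r hr hπ
      rw [List.map_nil, List.sum_nil, enc_zero] at hπ
      rcases (D.π_eq_zero r hr.1).1 hπ with e | e <;> rw [e]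
      · rw [one_mul, mul_one]
      · exact mem_Cz.1 hc'C
    | cons i l ih =>
      intro r hr hπ
      obtain ⟨a, ha, haπ⟩ := exists_Q1 D (ev_sing' i)
      have hev : ∀ l : List (Fin 5), Ev ((l.map sing).sum) := by
        intro l
        induction l with
        | nil => exact ev_zero
        | cons i l ih' => rw [List.map_cons, List.sum_cons]; exact ev_add _ _ (ev_sing' i) ih'
      have hrest : c' * (a⁻¹ * r) = a⁻¹ * r * c' := by
        refine ih _ (mul_mem (inv_mem ha) hr) ?_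
        rw [D.π_mul _ (inv_mem ha.1) r hr.1, π_inv D ha.1, haπ, hπ, List.map_cons, List.sum_cons, ← enc_add,
          add_zero, ← add_assoc, show sing i + sing i = 0 from funext fun _ => CharTwo.add_self_eq_zero _, zero_add]
      calc c' * r = c' * a * (a⁻¹ * r) := by group
        _ = a * (c' * (a⁻¹ * r)) := by rw [hone i a ha haπ]; group
        _ = r * c' := by rw [hrest]; group
  intro r hr
  have hcov : ∀ v : V5, Ev v → ∃ c : Fin 5 → Bool, (((List.finRange 5).filter c).map sing).sum = v := by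
    decide +kernel
  obtain ⟨f, hf⟩ := hcov _ (ev_dec (D.π r)).1
  exact key _ r hr (by rw [hf]; exact Q1_π hr)

/-- The involution of the complement. -/
structure Split (D : Dat z) (b x : G) : Prop where
  K : x ∈ K2 D
  sq : x * x = 1
  act : hact D x = iota (1, σ₀)
  rel : (x * b) ^ 3 = 1

theorem Split.C {b x : G} (S : Split D b x) : x ∈ centralizer ({z} : Set G) := S.K.1

namespace Five

variable {b : G} (F : Five D b)
include F

theorem mem_K2 : b ∈ K2 D := Co1Five.mem_K2.2 ⟨F.C, fun q hq => (F.mem_Q1 hq.1).2 hq⟩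

theorem flip : ∃ b', Five (twist D flip8) b' ∧ b' ∈ centralizer ({z} : Set G) ∧ hact D b' = iota (β, 1) := by
  obtain ⟨c, hc, hc'⟩ := exists_lift D (σ := β) (τ := 1) (by rw [β_sign, map_one])
  have hpow : ∀ n : ℕ, hact D (c ^ n) = iota (β ^ n, 1) := fun n => by
    induction n with
    | zero => simp [hact_Q (one_mem D.Q), ← Prod.one_eq_mk]
    | succ n ih => rw [pow_succ, hact_mul (pow_mem hc n) hc, ih, hc', ← map_mul, Prod.mk_mul_mk, mul_one, pow_succ]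
  have h5 : c ^ 5 ∈ D.Q := mem_Q_of_hact (pow_mem hc 5) (by rw [hpow, β_pow]; exact map_one iota)
  have h16 : hact D (c ^ 16) = iota (β, 1) := by
    rw [hpow, show (16 : ℕ) = 5 * 3 + 1 from rfl, pow_succ, pow_mul, β_pow, one_pow, one_mul]
  refine ⟨c ^ 16, ⟨pow_mem hc 16, ?_, ?_⟩, pow_mem hc 16, h16⟩
  · have h4 : (c ^ 5) ^ 4 = 1 := by
      rw [show (4 : ℕ) = 2 * 2 from rfl, pow_mul, pow_two (c ^ 5)]
      rcases sq_cases D h5 with e | e <;> rw [e]
      · rw [one_pow]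
      · rw [pow_two, D.pre.gen.sq]
    rw [← pow_mul, show 16 * 5 = 5 * (4 * 4) from rfl, pow_mul, pow_mul, h4, one_pow]
  · rw [hact_twist D flip8 (pow_mem hc 16), h16, flip8_conj]

/-- The complement exists. -/
theorem exists_split {g₀ : G} (h₀ : g₀ * z * g₀⁻¹ ∈ D.Q) (hne : g₀ * z * g₀⁻¹ ≠ z) : ∃ x, Split D b x := by
  obtain ⟨b', F', hb'C, hb'⟩ := F.flip
  obtain ⟨x₂, hx₂C, hx₂b, hx₂₂, σ, hσ, hx₂a⟩ := F'.exists_invol (g₀ := g₀) h₀ hne
  have hxact : hact D x₂ = iota (1, σ) := by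
    have h := hx₂a
    rw [hact_twist D flip8 hx₂C] at h
    calc hact D x₂ = flip8⁻¹ * (flip8 * hact D x₂ * flip8⁻¹) * flip8 := by group
      _ = flip8 * iota (σ, 1) * flip8⁻¹ := by rw [h, inv_eq_of_mul_eq_one_right flip8_mul_self]
      _ = _ := flip8_conj σ 1
  have hxK : x₂ ∈ K2 D := by
    refine Co1Five.mem_K2.2 ⟨hx₂C, fun q hq => ?_⟩
    obtain ⟨v, hv, hvq⟩ := image_β _ (ev_dec (D.π q)).1
    obtain ⟨r, hr, hrπ⟩ := exists_Q1 D hv
    set r' := b' * r * b'⁻¹ with hr'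
    have hr'Q : r' ∈ D.Q := norm_Q D hb'C hr.1
    have hr'π : D.π r' = enc (pa β v) 0 := by
      rw [hr', (π_conj hb'C hr.1).2, hb', hrπ, iota_enc _ _ hv ev_zero, CfsgLib.HJT.act_one]
    have hxz : x₂ * z * x₂⁻¹ = z := z_conj hx₂C
    have hb'z : b' * z * b'⁻¹ = z := z_conj hb'C
    have hprod : x₂ * (r * r') * x₂⁻¹ = r * r' := by
      have hcase := eq_of_π D hr.1 (norm_Q D hx₂C hr.1) (by
        rw [(π_conj hx₂C hr.1).2, hxact, hrπ, iota_enc _ _ hv ev_zero, CfsgLib.HJT.act_one, pa_zero])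
      have hconj : x₂ * r' * x₂⁻¹ = b' * (x₂ * r * x₂⁻¹) * b'⁻¹ := by
        rw [hr']
        calc x₂ * (b' * r * b'⁻¹) * x₂⁻¹ = (x₂ * b') * r * (x₂ * b')⁻¹ := by group
          _ = (b' * x₂) * r * (b' * x₂)⁻¹ := by rw [hx₂b]
          _ = _ := by group
      rcases hcase with e | e <;> rw [show x₂ * (r * r') * x₂⁻¹ = (x₂ * r * x₂⁻¹) * (x₂ * r' * x₂⁻¹) by group,
        hconj, e]
      rw [show b' * (r * z) * b'⁻¹ = (b' * r * b'⁻¹) * (b' * z * b'⁻¹) by group, hb'z, ← hr']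
      calc r * z * (r' * z) = r * (z * r') * z := by group
        _ = r * r' * (z * z) := by rw [z_comm (mem_C D hr'Q)]; group
        _ = r * r' := by rw [D.pre.gen.sq, mul_one]
    have hπ : D.π (r * r') = D.π q := by
      rw [D.π_mul r hr.1 r' hr'Q, hrπ, hr'π, ← enc_add, add_zero, hvq, ← Q1_π hq]
    rcases eq_of_π D (mul_mem hr.1 hr'Q) hq.1 hπ with e | e <;> rw [e]
    · calc x₂ * (r * r') = x₂ * (r * r') * x₂⁻¹ * x₂ := by group
        _ = r * r' * x₂ := by rw [hprod]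
    · calc x₂ * (r * r' * z) = (x₂ * (r * r') * x₂⁻¹) * (x₂ * z * x₂⁻¹) * x₂ := by group
        _ = r * r' * z * x₂ := by rw [hprod, hxz]
  obtain ⟨γ', hγ, hγc⟩ := CfsgLib.HJT.inv5_conj σ hσ σ₀ σ₀_inv
  obtain ⟨c, hcK, hcact⟩ := exists_K2 D hγ
  set x₀ := c * x₂ * c⁻¹ with hx₀
  have hx₀K : x₀ ∈ K2 D := mul_mem (mul_mem hcK hxK) (inv_mem hcK)
  have hx₀a : hact D x₀ = iota (1, σ₀) := by
    rw [hx₀, hact_conj D hcK.1 hx₂C, hcact, hxact, ← map_inv, ← map_mul, ← map_mul]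
    simp [hγc]
  have hx₀₂ : x₀ * x₀ = 1 := by
    rw [hx₀, show c * x₂ * c⁻¹ * (c * x₂ * c⁻¹) = c * (x₂ * x₂) * c⁻¹ by group, hx₂₂]; group
  set g := x₀ * b with hg
  have hgK : g ∈ K2 D := mul_mem hx₀K F.mem_K2
  have hga : hact D g = iota (1, σ₀ * β) := by
    rw [hg, hact_mul hx₀K.1 F.C, hx₀a, F.eq, ← map_mul, Prod.mk_mul_mk, mul_one]
  have hg3 : g ^ 3 ∈ Q2 D := by
    refine K2_Q (pow_mem hgK 3) (mem_Q_of_hact (pow_mem hgK.1 3) ?_)
    rw [hact_eq (pow_mem hgK.1 3), show (⟨g ^ 3, pow_mem hgK.1 3⟩ : centralizer ({z} : Set G)) = ⟨g, hgK.1⟩ ^ 3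
      from rfl, map_pow, ← hact_eq hgK.1, hga, ← map_pow, Prod.pow_mk, one_pow, σ₀_mul]
    exact map_one iota
  have hfix : pa (σ₀ * β) (dec2 (D.π (g ^ 3))) = dec2 (D.π (g ^ 3)) := by
    have h := (π_conj hgK.1 hg3.1).2
    rw [show g * g ^ 3 * g⁻¹ = g ^ 3 by group] at h
    nth_rewrite 2 [Q2_π hg3] at h
    rw [hga, iota_enc _ _ ev_zero (ev_dec _).2] at h
    nth_rewrite 1 [Q2_π hg3] at h
    exact (enc_inj ev_zero (ev_dec _).2 (ev_pa _ ev_zero) (ev_pa _ (ev_dec _).2) h).2.symm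
  obtain ⟨r, hr, hrfix, hrsum⟩ := norm_surj _ (ev_dec _).2 hfix
  obtain ⟨p, hp, hpr⟩ := fixed_image r hr hrfix
  obtain ⟨P, hP, hPπ⟩ : ∃ P ∈ D.Q, D.π P = enc 0 p := D.π_surj _
  set P' := x₀ * P * x₀ with hP'
  have hx₀i : x₀⁻¹ = x₀ := inv_eq_of_mul_eq_one_right hx₀₂
  have hP'Q : P' ∈ D.Q := by
    have := norm_Q D hx₀K.1 hP
    rwa [hx₀i] at this
  have hP'π : D.π P' = enc 0 (pa σ₀ p) := by
    have h := (π_conj hx₀K.1 hP).2
    rw [hx₀i, hx₀a, hPπ, iota_enc _ _ ev_zero hp, pa_zero] at h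
    exact h
  set q := P' * P with hq
  have hqQ : q ∈ D.Q := mul_mem hP'Q hP
  have hqπ : D.π q = enc 0 r := by rw [hq, D.π_mul P' hP'Q P hP, hP'π, hPπ, ← enc_add, add_zero, hpr]
  have hq2 : q ∈ Q2 D := ⟨hqQ, by rw [hqπ, (dec_enc 0 r ev_zero hr).1]⟩
  have hPP : P' * P' = P * P := by
    rw [hP']
    rcases sq_cases D hP with e | e
    · rw [show x₀ * P * x₀ * (x₀ * P * x₀) = x₀ * P * (x₀ * x₀) * P * x₀ by group, hx₀₂, mul_one,
        mul_assoc x₀ P P, e, mul_one, hx₀₂]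
    · rw [show x₀ * P * x₀ * (x₀ * P * x₀) = x₀ * P * (x₀ * x₀) * P * x₀ by group, hx₀₂, mul_one,
        mul_assoc x₀ P P, e, mem_Cz.1 hx₀K.1, mul_assoc, hx₀₂, mul_one]
  have hxq : x₀ * q * (x₀ * q) = 1 := by
    calc x₀ * q * (x₀ * q) = x₀ * P' * P * x₀ * (P' * P) := by rw [hq]; group
      _ = (x₀ * x₀) * P * (x₀ * P * x₀) * (P' * P) := by rw [hP']; group
      _ = P * (P' * P') * P := by rw [hx₀₂, one_mul, ← hP']; group
      _ = (P * P) * (P * P) := by rw [hPP]; group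
      _ = 1 := by rcases sq_cases D hP with e | e <;> rw [e]
                  · rw [one_mul]
                  · rw [D.pre.gen.sq]
  set x₁ := x₀ * q with hx₁
  have hx₁K : x₁ ∈ K2 D := mul_mem hx₀K (Q2_le_K2 hq2)
  have hx₁a : hact D x₁ = iota (1, σ₀) := by rw [hx₁, hact_mul hx₀K.1 (mem_C D hqQ), hact_Q hqQ, mul_one, hx₀a]
  -- the cube of the product
  set q' := b⁻¹ * q * b with hq'
  have hq'Q : q' ∈ D.Q := norm_Q' D F.C hqQ
  have hq'π : D.π q' = enc 0 (pa β⁻¹ r) := by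
    have h := (π_conj (inv_mem F.C) hqQ).2
    rw [inv_inv, hact_inv F.C, F.eq, ← map_inv, Prod.inv_mk, inv_one, hqπ, iota_enc _ _ ev_zero hr, pa_zero] at h
    exact h
  have hinv' : ∀ a ∈ D.Q, ∀ v, Ev v → D.π a = enc 0 v →
      g⁻¹ * a * g ∈ D.Q ∧ D.π (g⁻¹ * a * g) = enc 0 (pa (σ₀ * β)⁻¹ v) := by
    intro a ha v hv hπ
    refine ⟨norm_Q' D hgK.1 ha, ?_⟩
    have h := (π_conj (inv_mem hgK.1) ha).2
    rw [inv_inv, hact_inv hgK.1, hga, ← map_inv, Prod.inv_mk, inv_one, hπ, iota_enc _ _ ev_zero hv, pa_zero] at h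
    exact h
  obtain ⟨hc1, hc1π⟩ := hinv' q' hq'Q _ (ev_pa _ hr) hq'π
  obtain ⟨hc2, hc2π⟩ := hinv' _ hc1 _ (ev_pa _ (ev_pa _ hr)) hc1π
  have hcube : (x₁ * b) ^ 3 = g ^ 3 * (g⁻¹ * (g⁻¹ * q' * g) * g) * (g⁻¹ * q' * g) * q' := by
    rw [hx₁, hq', hg]; simp only [pow_succ, pow_zero, one_mul]; group
  have hu : (x₁ * b) ^ 3 = 1 ∨ (x₁ * b) ^ 3 = z := by
    rw [hcube]
    refine (D.π_eq_zero _ (mul_mem (mul_mem (mul_mem hg3.1 hc2) hc1) hq'Q)).1 ?_
    rw [D.π_mul _ (mul_mem (mul_mem hg3.1 hc2) hc1) _ hq'Q, D.π_mul _ (mul_mem hg3.1 hc2) _ hc1,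
      D.π_mul _ hg3.1 _ hc2, hc2π, hc1π, hq'π, Q2_π hg3, ← CfsgLib.HJT.act_mul, ← enc_add, ← enc_add, ← enc_add]
    simp only [add_zero]
    rw [← enc_zero]
    congr 1
    rw [← hrsum]
    funext i
    simp only [Pi.add_apply, Pi.zero_apply]
    generalize pa β⁻¹ r i = a
    generalize pa (σ₀ * β)⁻¹ (pa β⁻¹ r) i = a'
    generalize pa ((σ₀ * β)⁻¹ * (σ₀ * β)⁻¹) (pa β⁻¹ r) i = a''
    revert a a' a''
    decide
  rcases hu with e | e
  · exact ⟨x₁, hx₁K, hxq, hx₁a, e⟩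
  · have hzx : z * x₁ = x₁ * z := z_comm hx₁K.1
    refine ⟨x₁ * z, mul_mem hx₁K z_K2, ?_, by rw [hact_mul hx₁K.1 z_Cz, hact_Q (z_mem D), mul_one, hx₁a], ?_⟩
    · rw [show x₁ * z * (x₁ * z) = x₁ * (z * x₁) * z by group, hzx,
        show x₁ * (x₁ * z) * z = (x₁ * x₁) * (z * z) by group, hxq, D.pre.gen.sq, one_mul]
    · have hcomm : Commute z (x₁ * b) := z_comm (mul_mem hx₁K.1 F.C)
      rw [show x₁ * z * b = z * (x₁ * b) by rw [← hzx, mul_assoc], hcomm.mul_pow, e]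
      rw [pow_succ, pow_two, D.pre.gen.sq, one_mul, D.pre.gen.sq]

/-- Uniqueness of the involution. -/
theorem split_unique {x x' : G} (S : Split D b x) (S' : Split D b x') : x' = x := by
  have hxi : x⁻¹ = x := inv_eq_of_mul_eq_one_right S.sq
  set q := x * x' with hq
  have hqQ : q ∈ D.Q := mem_Q_of_hact (mul_mem S.C S'.C) (by
    rw [hact_mul S.C S'.C, S.act, S'.act, ← map_mul, Prod.mk_mul_mk, one_mul, σ₀_inv.1]; exact map_one iota)
  have hq2 : q ∈ Q2 D := K2_Q (mul_mem S.K S'.K) hqQ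
  have hx' : x' = x * q := by rw [hq, ← mul_assoc, S.sq, one_mul]
  set r := dec2 (D.π q) with hrd
  have hqπ : D.π q = enc 0 r := Q2_π hq2
  have hr : Ev r := (ev_dec _).2
  have hrfix : pa σ₀ r = r := by
    have h1 : x * q * x⁻¹ = q⁻¹ := by
      rw [hxi, eq_inv_iff_mul_eq_one, show x * q * x * q = (x * q) * (x * q) by group, ← hx']
      exact S'.sq
    have h := (π_conj S.C hqQ).2
    rw [h1, π_inv D hqQ, S.act, hqπ, iota_enc _ _ ev_zero hr, pa_zero] at h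
    exact (enc_inj ev_zero hr ev_zero (ev_pa _ hr) h).2.symm
  set g := x * b with hg
  have hgC : g ∈ centralizer ({z} : Set G) := mul_mem S.C F.C
  have hga : hact D g = iota (1, σ₀ * β) := by
    rw [hg, hact_mul S.C F.C, S.act, F.eq, ← map_mul, Prod.mk_mul_mk, mul_one]
  set q' := b⁻¹ * q * b with hq'
  have hq'Q : q' ∈ D.Q := norm_Q' D F.C hqQ
  have hq'π : D.π q' = enc 0 (pa β⁻¹ r) := by
    have h := (π_conj (inv_mem F.C) hqQ).2
    rw [inv_inv, hact_inv F.C, F.eq, ← map_inv, Prod.inv_mk, inv_one, hqπ, iota_enc _ _ ev_zero hr, pa_zero] at h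
    exact h
  have hinv' : ∀ a ∈ D.Q, ∀ v, Ev v → D.π a = enc 0 v →
      g⁻¹ * a * g ∈ D.Q ∧ D.π (g⁻¹ * a * g) = enc 0 (pa (σ₀ * β)⁻¹ v) := by
    intro a ha v hv hπ
    refine ⟨norm_Q' D hgC ha, ?_⟩
    have h := (π_conj (inv_mem hgC) ha).2
    rw [inv_inv, hact_inv hgC, hga, ← map_inv, Prod.inv_mk, inv_one, hπ, iota_enc _ _ ev_zero hv, pa_zero] at h
    exact h
  obtain ⟨hc1, hc1π⟩ := hinv' q' hq'Q _ (ev_pa _ hr) hq'π
  obtain ⟨hc2, hc2π⟩ := hinv' _ hc1 _ (ev_pa _ (ev_pa _ hr)) hc1π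
  have hcube : (g⁻¹ * (g⁻¹ * q' * g) * g) * (g⁻¹ * q' * g) * q' = 1 := by
    have h := S'.rel
    rw [hx', show (x * q * b) ^ 3 = (x * b) ^ 3 * ((g⁻¹ * (g⁻¹ * q' * g) * g) * (g⁻¹ * q' * g) * q') by
      rw [hq', hg]; simp only [pow_succ, pow_zero, one_mul]; group, S.rel, one_mul] at h
    exact h
  have hr0 : r = 0 := by
    refine norm_inj σ₀ σ₀_inv.1 σ₀_mul r hr hrfix ?_
    have h := congrArg D.π hcube
    rw [D.π_mul _ (mul_mem hc2 hc1) _ hq'Q, D.π_mul _ hc2 _ hc1, hc2π, hc1π, hq'π, π_one, ← enc_add, ← enc_add,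
      ← CfsgLib.HJT.act_mul] at h
    simp only [add_zero] at h
    rw [← enc_zero] at h
    have h2 := (enc_inj ev_zero (ev_add _ _ (ev_add _ _ (ev_pa _ (ev_pa _ hr)) (ev_pa _ (ev_pa _ hr))) (ev_pa _ hr))
      ev_zero ev_zero h).2
    rw [← h2]; abel
  rcases (D.π_eq_zero q hqQ).1 (by rw [hqπ, hr0, enc_zero]) with e | e
  · rw [hx', e, mul_one]
  · exfalso
    have h := S'.rel
    have hcomm : Commute z (x * b) := z_comm hgC
    rw [hx', e, show x * z * b = z * (x * b) by rw [← z_comm S.C, mul_assoc], hcomm.mul_pow, S.rel,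
      mul_one, pow_succ, pow_two, D.pre.gen.sq, one_mul] at h
    exact D.pre.gen.ne_one h

end Five

end CfsgLib.Co1Five
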